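import Groth.Agent.GaSplit.Step

/-! Every symmetric multiplicative cocycle splits when Frobenius is surjective. -/

set_option autoImplicit false
universe u

namespace Groth.Agent.GaSplit

open MvPolynomial Finset

variable {R : Type u} [CommRing R] {p : ℕ} [Fact p.Prime]

theorem span_pow_eq_bot {ι : Type*} (s : Finset ι) (c : ι → R) {N : ℕ}
    (hc : ∀ l ∈ s, c l ^ (N + 1) = 0) :
    Ideal.span (c '' (s : Set ι)) ^ (s.card * (N + 1) + 1) = ⊥ := by
  classical
  induction s using Finset.induction with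
  | empty => simp
  | insert a s ha ih =>
    rw [Finset.coe_insert, Set.image_insert_eq, Ideal.span_insert, Finset.card_insert_of_notMem ha,
      eq_bot_iff, show (s.card + 1) * (N + 1) + 1 = (N + 1) + (s.card * (N + 1) + 1) by ring]
    refine Ideal.sup_pow_add_le_pow_sup_pow.trans ?_
    rw [Ideal.span_singleton_pow, hc a (Finset.mem_insert_self a s),
      ih fun l hl => hc l (Finset.mem_insert_of_mem hl)]
    simp

theorem coeff_mem_of_map_eq {I : Ideal R} {h : MvPolynomial (Fin 2) R}
    (he : MvPolynomial.map (Ideal.Quotient.mk I) h = 1) (m : Fin 2 →₀ ℕ) : coeff m (h - 1) ∈ I := by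
  rw [← Ideal.Quotient.eq_zero_iff_mem, ← coeff_map, map_sub, map_one, he, sub_self, coeff_zero]

theorem IsCoc.map {Q : Type u} [CommRing Q] (φ : R →+* Q) {h : MvPolynomial (Fin 2) R}
    (H : IsCoc h) : IsCoc (MvPolynomial.map φ h) := by
  have key : ∀ (τ : Type) (f : Fin 2 → MvPolynomial τ R) (g : MvPolynomial (Fin 2) R),
      MvPolynomial.map φ (MvPolynomial.aeval f g) =
        MvPolynomial.aeval (fun i => MvPolynomial.map φ (f i)) (MvPolynomial.map φ g) := by
    intro τ f g
    induction g using MvPolynomial.induction_on with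
    | C a => simp
    | add f g hf hg => simp only [map_add, hf, hg]
    | mul_X g i hg => simp only [map_mul, hg, aeval_X, map_X]
  refine ⟨?_, ?_, ?_⟩
  · have := congrArg (MvPolynomial.map φ) H.norm
    rw [key, map_one] at this
    convert this using 3
    ext i : 1
    fin_cases i <;> simp
  · have := congrArg (MvPolynomial.map φ) H.symm
    rw [key] at this
    convert this using 3
    ext i : 1
    fin_cases i <;> simp
  · have := congrArg (MvPolynomial.map φ) H.coc
    simp only [map_mul, key] at this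
    convert this using 4 <;> (ext i : 1; fin_cases i <;> simp)

theorem step (hp : (p : R) = 0) [ExpChar R p] (hF : Function.Surjective (frobenius R p)) {L : ℕ}
    (c : Fin L → R) (N t : ℕ) (ht : 1 ≤ t) (hc : ∀ l, c l ^ N = 0) {h : MvPolynomial (Fin 2) R}
    (H : IsCoc h) (hJ : ∀ m, coeff m (h - 1) ∈ Ideal.span (Set.range c) ^ t) :
    ∃ c' : Fin L → R, (∀ l, c' l ^ (p * N) = 0) ∧ ∃ u v : Polynomial R, u * v = 1 ∧ u.coeff 0 = 1 ∧
      ∀ m, coeff m (h * cob u v - 1) ∈ Ideal.span (Set.range c') ^ ((p + 1) * t) := by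
  have hp' : p.Prime := Fact.out
  choose c' hc' using fun l => hF (c l)
  have hc'' : ∀ l, c' l ^ (p * N) = 0 := fun l => by
    rw [pow_mul, show c' l ^ p = c l from hc' l, hc]
  refine ⟨c', hc'', ?_⟩
  let I := Ideal.span (Set.range c)
  let I' := Ideal.span (Set.range c')
  have hmap : I'.map (frobenius R p) = I := by
    rw [Ideal.map_span, ← Set.range_comp]
    congr 2
    exact funext hc'
  have hle : I ≤ I' ^ p := by
    rw [Ideal.span_le]
    rintro _ ⟨l, rfl⟩
    rw [← hc' l, frobenius_def]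
    exact Ideal.pow_mem_pow (Ideal.subset_span (Set.mem_range_self l)) p
  have hnil : ∀ x ∈ I', IsNilpotent x := by
    intro x hx
    rw [← mem_nilradical]
    refine (Ideal.span_le.mpr ?_) hx
    rintro _ ⟨l, rfl⟩
    exact ⟨p * N, hc'' l⟩
  have hJp : ∀ m, coeff m (h - 1) ∈ I' ^ (p * t) := fun m => by
    rw [pow_mul]
    exact Ideal.pow_right_mono hle t (hJ m)
  let K := I' ^ ((p + 1) * t)
  let φ := Ideal.Quotient.mk K
  have hg : MvPolynomial.map φ h - 1 = MvPolynomial.map φ (h - 1) := by rw [map_sub, map_one]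
  have Hadd := isAddCoc_of_isCoc (H.map φ) (fun m m' => by
    rw [hg, coeff_map, coeff_map, ← map_mul, Ideal.Quotient.eq_zero_iff_mem]
    have := Ideal.mul_mem_mul (hJp m) (hJp m')
    rw [← pow_add] at this
    refine Ideal.pow_le_pow_right ?_ this
    have := hp'.two_le
    nlinarith)
  obtain ⟨u, v, huv, hu0, hcob⟩ := exists_cob hp φ Hadd fun m => by
    have h1 : -coeff m (h - 1) ∈ (I' ^ t).map (frobenius R p) := by
      rw [Ideal.map_pow, hmap]
      exact neg_mem (hJ m)
    obtain ⟨b, hb, hbe⟩ := (Ideal.mem_map_iff_of_surjective _ hF).mp h1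
    refine ⟨b, hnil b (Ideal.pow_le_self (by omega) hb), ?_, ?_⟩
    · rw [hg, coeff_map, ← map_pow, ← map_neg, ← hbe]
      rfl
    · rw [← map_pow, Ideal.Quotient.eq_zero_iff_mem]
      have := Ideal.pow_mem_pow hb (p + 1)
      rwa [← pow_mul, mul_comm] at this
  refine ⟨u, v, huv, hu0, coeff_mem_of_map_eq ?_⟩
  rw [map_mul, hcob]
  have hsq : (MvPolynomial.map φ h - 1) * (MvPolynomial.map φ h - 1) = 0 := by
    have := aeval_mul_aeval_eq_zero _ _ Hadd.sq_zero
      (MvPolynomial.X : Fin 2 → MvPolynomial (Fin 2) (R ⧸ K)) MvPolynomial.X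
    simpa [MvPolynomial.aeval_X_left] using this
  linear_combination (-1) * hsq

theorem exists_split (hp : (p : R) = 0) [ExpChar R p] (hF : Function.Surjective (frobenius R p))
    {h : MvPolynomial (Fin 2) R} (hu : IsUnit h) (H : IsCoc h) :
    ∃ f : Polynomial R, IsUnit f ∧
      Polynomial.aeval (X 0 + X 1 : MvPolynomial (Fin 2) R) f =
        Polynomial.aeval (X 0 : MvPolynomial (Fin 2) R) f *
          Polynomial.aeval (X 1 : MvPolynomial (Fin 2) R) f * h := by
  classical
  have hp' : p.Prime := Fact.out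
  obtain ⟨-, hnil⟩ := MvPolynomial.isUnit_iff.mp hu
  have h0 : coeff 0 h = 1 := by
    have := coeff_aeval_zero h 0
    rw [H.norm, show m2 0 0 = 0 by simp [m2]] at this
    rw [← this]
    simp
  have hnil' : ∀ m, IsNilpotent (coeff m (h - 1)) := by
    intro m
    by_cases hm : m = 0
    · subst hm; simp [h0]
    · rw [coeff_sub, coeff_one, if_neg (Ne.symm hm), sub_zero]
      exact hnil m hm
  let e := Fintype.equivFin ↥(h - 1).support
  let c₀ : Fin (Fintype.card ↥(h - 1).support) → R := fun l => coeff (e.symm l).1 (h - 1)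
  choose Nl hNl using fun l => hnil' (e.symm l).1
  let N₀ := Finset.univ.sup Nl
  let L := Fintype.card ↥(h - 1).support
  have iter : ∀ k, ∃ c : Fin L → R, (∀ l, c l ^ (p ^ k * N₀) = 0) ∧
      ∃ u v : Polynomial R, u * v = 1 ∧ u.coeff 0 = 1 ∧
        ∀ m, coeff m (h * cob u v - 1) ∈ Ideal.span (Set.range c) ^ ((p + 1) ^ k) := by
    intro k
    induction k with
    | zero =>
      refine ⟨c₀, fun l => ?_, 1, 1, one_mul 1, Polynomial.coeff_one_zero, fun m => ?_⟩
      · rw [pow_zero, one_mul]
        exact pow_eq_zero_of_le (Finset.le_sup (Finset.mem_univ l)) (hNl l)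
      · rw [pow_zero, pow_one, show cob (1 : Polynomial R) 1 = 1 by simp [cob], mul_one]
        by_cases hm : m ∈ (h - 1).support
        · exact Ideal.subset_span ⟨e ⟨m, hm⟩, by simp [c₀]⟩
        · rw [notMem_support_iff.mp hm]
          exact zero_mem _
    | succ k ih =>
      obtain ⟨c, hc, u, v, huv, hu0, hJ⟩ := ih
      obtain ⟨c', hc', u', v', huv', hu0', hJ'⟩ := step hp hF c _ _ (Nat.one_le_pow _ _ (by omega)) hc
        (H.mul (isCoc_cob u v huv hu0)) hJ
      refine ⟨c', fun l => by rw [pow_succ', mul_assoc]; exact hc' l, u * u', v * v',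
        by rw [mul_mul_mul_comm, huv, huv', one_mul],
        by rw [Polynomial.mul_coeff_zero, hu0, hu0', one_mul], fun m => ?_⟩
      rw [cob_mul, ← mul_assoc, pow_succ']
      exact hJ' m
  let k := p * (L * N₀ + L + 1)
  obtain ⟨c, hc, u, v, huv, hu0, hJ⟩ := iter k
  have hbern : ∀ n, p ^ n * (p + n) ≤ (p + 1) ^ n * p := by
    intro n
    induction n with
    | zero => simp
    | succ n ih =>
      have h1 : p * (p + (n + 1)) ≤ (p + 1) * (p + n) := by nlinarith
      calc p ^ (n + 1) * (p + (n + 1)) = p ^ n * (p * (p + (n + 1))) := by ring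
        _ ≤ p ^ n * ((p + 1) * (p + n)) := Nat.mul_le_mul_left _ h1
        _ = (p + 1) * (p ^ n * (p + n)) := by ring
        _ ≤ (p + 1) * ((p + 1) ^ n * p) := Nat.mul_le_mul_left _ ih
        _ = (p + 1) ^ (n + 1) * p := by ring
  have hbig : L * (p ^ k * N₀ + 1) + 1 ≤ (p + 1) ^ k := by
    have h1 := hbern k
    have h2 : p ^ k * (p + k) = (p ^ k * (1 + (L * N₀ + L + 1))) * p := by simp only [k]; ring
    rw [h2] at h1
    have h3 := Nat.le_of_mul_le_mul_right h1 hp'.pos
    have h4 := Nat.one_le_pow k p hp'.pos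
    nlinarith
  have hzero : Ideal.span (Set.range c) ^ ((p + 1) ^ k) = ⊥ := by
    have := span_pow_eq_bot (Finset.univ : Finset (Fin L)) c (N := p ^ k * N₀)
      fun l _ => by rw [pow_succ, hc, zero_mul]
    rw [Finset.coe_univ, Set.image_univ, Finset.card_univ, Fintype.card_fin] at this
    exact le_bot_iff.mp (this ▸ Ideal.pow_le_pow_right hbig)
  have hone : h * cob u v = 1 := by
    rw [← sub_eq_zero]
    ext m
    rw [coeff_zero]
    exact (Submodule.mem_bot R).mp (hzero ▸ hJ m)
  refine ⟨v, IsUnit.of_mul_eq_one u (by rw [mul_comm, huv]), ?_⟩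
  have h1 : Polynomial.aeval (X 0 + X 1 : MvPolynomial (Fin 2) R) u *
      Polynomial.aeval (X 0 + X 1 : MvPolynomial (Fin 2) R) v = 1 := by rw [← map_mul, huv, map_one]
  rw [cob] at hone
  linear_combination (Polynomial.aeval (X 0 : MvPolynomial (Fin 2) R) v *
    Polynomial.aeval (X 1 : MvPolynomial (Fin 2) R) v * h) * h1 -
    Polynomial.aeval (X 0 + X 1 : MvPolynomial (Fin 2) R) v * hone

end Groth.Agent.GaSplit
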