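import Groth.Agent.GaSplit.Main

/-! Characters of the additive group and its infinitesimal kernels. -/

set_option autoImplicit false
universe u

namespace Groth.Agent.GaSplit

open MvPolynomial Finset

variable {R : Type u} [CommRing R]

theorem coeff_aeval_add (f : Polynomial R) (i j : ℕ) :
    coeff (m2 i j) (Polynomial.aeval (X 0 + X 1 : MvPolynomial (Fin 2) R) f) =
      ((i + j).choose i : R) * f.coeff (i + j) := by
  induction f using Polynomial.induction_on' with
  | add f g hf hg => simp only [map_add, coeff_add, Polynomial.coeff_add, hf, hg, mul_add]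
  | monomial n c =>
    have e : Polynomial.aeval (X 0 + X 1 : MvPolynomial (Fin 2) R) (Polynomial.monomial n c) =
        ∑ l ∈ range (n + 1), monomial (m2 l (n - l)) ((n.choose l : R) * c) := by
      rw [Polynomial.aeval_monomial, add_pow, Finset.mul_sum]
      refine Finset.sum_congr rfl fun l _ => ?_
      rw [monomial_m2, map_mul, map_natCast, MvPolynomial.algebraMap_eq]
      ring
    rw [e, coeff_sum, Polynomial.coeff_monomial]
    simp only [coeff_monomial]
    split_ifs with h
    · subst h
      rw [Finset.sum_eq_single i]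
      · simp
      · intro l _ hl
        exact if_neg fun h' => hl (m2_inj h').1
      · intro hi; simp at hi
    · rw [mul_zero]
      refine Finset.sum_eq_zero fun l hl => if_neg fun h' => h ?_
      obtain ⟨h1, h2⟩ := m2_inj h'
      rw [Finset.mem_range] at hl
      omega

theorem coeff_aeval_mul_aeval (f g : Polynomial R) (i j : ℕ) :
    coeff (m2 i j) (Polynomial.aeval (X 0 : MvPolynomial (Fin 2) R) f *
      Polynomial.aeval (X 1 : MvPolynomial (Fin 2) R) g) = f.coeff i * g.coeff j := by
  induction f using Polynomial.induction_on' with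
  | add f f' hf hf' => simp only [map_add, add_mul, coeff_add, Polynomial.coeff_add, hf, hf']
  | monomial n c =>
    induction g using Polynomial.induction_on' with
    | add g g' hg hg' => simp only [map_add, mul_add, coeff_add, Polynomial.coeff_add, hg, hg']
    | monomial m d =>
      have e : Polynomial.aeval (X 0 : MvPolynomial (Fin 2) R) (Polynomial.monomial n c) *
          Polynomial.aeval (X 1 : MvPolynomial (Fin 2) R) (Polynomial.monomial m d) =
          monomial (m2 n m) (c * d) := by
        rw [Polynomial.aeval_monomial, Polynomial.aeval_monomial, monomial_m2, map_mul,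
          MvPolynomial.algebraMap_eq]
        ring
      rw [e, coeff_monomial, Polynomial.coeff_monomial, Polynomial.coeff_monomial]
      by_cases hn : n = i
      · by_cases hm : m = j
        · subst hn hm; simp
        · rw [if_neg hm, mul_zero, if_neg fun h => hm (m2_inj h).2]
      · rw [if_neg hn, zero_mul, if_neg fun h => hn (m2_inj h).1]

theorem rec_of_mul {f : Polynomial R}
    (h : Polynomial.aeval (X 0 + X 1 : MvPolynomial (Fin 2) R) f =
      Polynomial.aeval (X 0 : MvPolynomial (Fin 2) R) f * Polynomial.aeval (X 1 : MvPolynomial (Fin 2) R) f)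
    (i j : ℕ) : ((i + j).choose i : R) * f.coeff (i + j) = f.coeff i * f.coeff j := by
  rw [← coeff_aeval_add, h, coeff_aeval_mul_aeval]

variable {p : ℕ} [Fact p.Prime]

theorem inverse_factorial (hp : (p : R) = 0) {j : ℕ} (hj : j < p) :
    Ring.inverse (j.factorial : R) * (j.factorial : R) = 1 := by
  obtain ⟨x, hx⟩ := exists_inv (R := R) hp (m := j.factorial) (by
    rw [(Fact.out : p.Prime).dvd_factorial]
    omega)
  exact Ring.inverse_mul_cancel _ (IsUnit.of_mul_eq_one_right _ hx)

/-- The truncated exponential product. -/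
noncomputable def prodExp (p : ℕ) (a : ℕ → R) (n : ℕ) : Polynomial R :=
  ∏ k ∈ range n, ∑ j ∈ range p,
    Polynomial.C (Ring.inverse (j.factorial : R) * a k ^ j) * Polynomial.X ^ (j * p ^ k)

theorem prodExp_mul (hp : (p : R) = 0) (a : ℕ → R) (ha : ∀ k, a k ^ p = 0) (n : ℕ) :
    Polynomial.aeval (X 0 + X 1 : MvPolynomial (Fin 2) R) (prodExp p a n) =
      Polynomial.aeval (X 0 : MvPolynomial (Fin 2) R) (prodExp p a n) *
        Polynomial.aeval (X 1 : MvPolynomial (Fin 2) R) (prodExp p a n) := by
  have hqP : (p : MvPolynomial (Fin 2) R) = 0 := by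
    rw [← map_natCast (C : R →+* MvPolynomial (Fin 2) R), hp, map_zero]
  let E : ℕ → MvPolynomial (Fin 2) R := fun i => C (Ring.inverse (i.factorial : R))
  have hE : ∀ i, i < p → E i * (i.factorial : MvPolynomial (Fin 2) R) = 1 := by
    intro i hi
    have := congrArg (C : R →+* MvPolynomial (Fin 2) R) (inverse_factorial hp hi)
    simpa [E] using this
  have hev : ∀ k (z : MvPolynomial (Fin 2) R), Polynomial.aeval z (∑ j ∈ range p,
      Polynomial.C (Ring.inverse (j.factorial : R) * a k ^ j) * Polynomial.X ^ (j * p ^ k)) =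
      ∑ i ∈ range p, E i * (C (a k)) ^ i * (z ^ p ^ k) ^ i := by
    intro k z
    rw [map_sum]
    refine Finset.sum_congr rfl fun i _ => ?_
    simp [E, ← pow_mul, mul_comm i]
  induction n with
  | zero => simp [prodExp]
  | succ n ih =>
    rw [prodExp, Finset.prod_range_succ, ← prodExp]
    rw [map_mul, map_mul, map_mul, ih, hev, hev, hev, add_pow_char_pow hqP]
    have hb : (C (a n) : MvPolynomial (Fin 2) R) ^ p = 0 := by rw [← map_pow, ha, map_zero]
    have := sum_mul_sum_truncExp hqP E hE (C (a n)) (X 0 ^ p ^ n : MvPolynomial (Fin 2) R)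
      (X 1 ^ p ^ n) (by rw [pow_succ, hb, zero_mul])
    rw [hb, zero_mul, add_zero] at this
    rw [← this]
    ring

theorem prodExp_coeff_zero (hp : (p : R) = 0) (a : ℕ → R) (n : ℕ) : (prodExp p a n).eval 0 = 1 := by
  rw [prodExp, Polynomial.eval_prod]
  refine Finset.prod_eq_one fun k _ => ?_
  rw [Polynomial.eval_finsetSum, Finset.sum_eq_single_of_mem 0 (mem_range.mpr (Fact.out : p.Prime).pos)]
  · simpa using inverse_factorial hp (j := 0) (Fact.out : p.Prime).pos
  · intro j _ hj
    simp [zero_pow (Nat.mul_ne_zero hj (pow_ne_zero k (Fact.out : p.Prime).ne_zero))]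

/-- A coefficient sequence behaving like a character below `p ^ n` is a product of truncated
exponentials. -/
theorem eq_prodExp (hp : (p : R) = 0) (c : ℕ → R) (hc0 : c 0 = 1) (n : ℕ)
    (H : ∀ i j, i < p ^ n → j < p ^ n → ((i + j).choose i : R) * c (i + j) = c i * c j) :
    (∀ k, k < n → c (p ^ k) ^ p = 0) ∧ (prodExp p (fun k => c (p ^ k)) n).natDegree < p ^ n ∧
      ∀ i, i < p ^ n → (prodExp p (fun k => c (p ^ k)) n).coeff i = c i := by
  have hp' : p.Prime := Fact.out
  have hlt : ∀ {k d}, k < n → d < p → d * p ^ k < p ^ n := by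
    intro k d hk hd
    calc d * p ^ k < p * p ^ k := Nat.mul_lt_mul_of_pos_right hd (pow_pos hp'.pos k)
      _ = p ^ (k + 1) := (pow_succ' p k).symm
      _ ≤ p ^ n := Nat.pow_le_pow_right hp'.pos hk
  have hpow : ∀ k, k < n → ∀ d, d < p → (d.factorial : R) * c (d * p ^ k) = c (p ^ k) ^ d := by
    intro k hk d
    induction d with
    | zero => intro _; simp [hc0]
    | succ d ih =>
      intro hd
      have h := H (d * p ^ k) (p ^ k) (hlt hk (by omega)) (by simpa using hlt hk hp'.one_lt)
      have hch : ((((d + 1) * p ^ k).choose (d * p ^ k) : ℕ) : R) = ((d + 1 : ℕ) : R) := by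
        have h1 := cast_eq_of_modEq hp (choose_pow_modEq (p := p) k (d + 1) d 0 (pow_pos hp'.pos k))
        rw [add_zero, Nat.choose_succ_self_right, mul_comm (p ^ k) (d + 1), mul_comm (p ^ k) d] at h1
        exact h1
      rw [show d * p ^ k + p ^ k = (d + 1) * p ^ k by ring, hch] at h
      rw [Nat.factorial_succ, pow_succ, ← ih (by omega)]
      push_cast at h ⊢
      linear_combination (d.factorial : R) * h
  have hzero : ∀ k, k < n → c (p ^ k) ^ p = 0 := by
    intro k hk
    obtain ⟨d, hd⟩ : ∃ d, p = d + 1 := ⟨p - 1, by have := hp'.pos; omega⟩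
    have h := H (d * p ^ k) (p ^ k) (hlt hk (by omega)) (by simpa using hlt hk hp'.one_lt)
    have hch : ((((d + 1) * p ^ k).choose (d * p ^ k) : ℕ) : R) = 0 := by
      have h1 := cast_eq_of_modEq hp (choose_pow_modEq (p := p) k (d + 1) d 0 (pow_pos hp'.pos k))
      rw [add_zero, Nat.choose_succ_self_right, mul_comm (p ^ k) (d + 1), mul_comm (p ^ k) d] at h1
      rw [h1, ← hd, hp]
    rw [show d * p ^ k + p ^ k = (d + 1) * p ^ k by ring, hch, zero_mul] at h
    rw [show c (p ^ k) ^ p = c (p ^ k) ^ d * c (p ^ k) by rw [← pow_succ, ← hd],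
      ← hpow k hk d (by omega), mul_assoc, ← h, mul_zero]
  have hsplit : ∀ k, k < n → ∀ d r, d < p → r < p ^ k → c (d * p ^ k + r) = c (d * p ^ k) * c r := by
    intro k hk d r hd hr
    have h := H (d * p ^ k) r (hlt hk hd) (lt_of_lt_of_le hr (Nat.pow_le_pow_right hp'.pos hk.le))
    have h1 := cast_eq_of_modEq hp (choose_pow_modEq (p := p) k d d r hr)
    rw [Nat.choose_self, Nat.cast_one, mul_comm (p ^ k) d] at h1
    rwa [h1, one_mul] at h
  refine ⟨hzero, ?_⟩
  suffices hm : ∀ m, m ≤ n → (prodExp p (fun k => c (p ^ k)) m).natDegree < p ^ m ∧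
      ∀ i, i < p ^ m → (prodExp p (fun k => c (p ^ k)) m).coeff i = c i from hm n le_rfl
  intro m
  induction m with
  | zero =>
    intro _
    refine ⟨by simp [prodExp], fun i hi => ?_⟩
    obtain rfl : i = 0 := by simpa using hi
    simp [prodExp, hc0]
  | succ k ih =>
    intro hk
    obtain ⟨hdeg, hcoef⟩ := ih (by omega)
    have hq : 0 < p ^ k := pow_pos hp'.pos k
    rw [prodExp, Finset.prod_range_succ, ← prodExp]
    constructor
    · refine lt_of_le_of_lt (Polynomial.natDegree_mul_le) ?_
      have h2 : (∑ j ∈ range p, Polynomial.C (Ring.inverse (j.factorial : R) * c (p ^ k) ^ j) *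
          Polynomial.X ^ (j * p ^ k)).natDegree ≤ (p - 1) * p ^ k := by
        refine Polynomial.natDegree_sum_le_of_forall_le _ _ fun j hj => ?_
        rw [mem_range] at hj
        exact (Polynomial.natDegree_C_mul_X_pow_le _ _).trans (Nat.mul_le_mul_right _ (by omega))
      calc _ < p ^ k + (p - 1) * p ^ k := Nat.add_lt_add_of_lt_of_le hdeg h2
        _ = p ^ (k + 1) := by
          obtain ⟨d, hd⟩ : ∃ d, p = d + 1 := ⟨p - 1, by have := hp'.pos; omega⟩
          rw [hd, Nat.add_sub_cancel, pow_succ']
          ring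
    · intro i hi
      have hd : i / p ^ k < p := by
        rw [Nat.div_lt_iff_lt_mul hq, ← pow_succ']
        exact hi
      rw [mul_comm, Finset.sum_mul, Polynomial.finsetSum_coeff,
        Finset.sum_eq_single_of_mem (i / p ^ k) (mem_range.mpr hd)]
      · rw [mul_assoc, Polynomial.coeff_C_mul, Polynomial.coeff_X_pow_mul',
          if_pos (Nat.div_mul_le_self i _), show i - i / p ^ k * p ^ k = i % p ^ k from
            Nat.sub_eq_of_eq_add' (Nat.div_add_mod' i (p ^ k)).symm,
          hcoef _ (Nat.mod_lt _ hq), ← hpow k (by omega) _ hd, ← mul_assoc (Ring.inverse _),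
          inverse_factorial hp hd, one_mul, ← hsplit k (by omega) _ _ hd (Nat.mod_lt _ hq),
          Nat.div_add_mod']
      · intro j hj hne
        rw [mul_assoc, Polynomial.coeff_C_mul, Polynomial.coeff_X_pow_mul']
        split_ifs with hle
        · rw [Polynomial.coeff_eq_zero_of_natDegree_lt, mul_zero]
          by_contra hcon
          refine hne (Nat.div_eq_of_lt_le ?_ ?_).symm
          · exact hle
          · rw [Nat.add_one_mul]; omega
        · rw [mul_zero]

theorem exists_prodExp (hp : (p : R) = 0) (f : Polynomial R) (h0 : f.eval 0 = 1) (n : ℕ)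
    (hdeg : f.natDegree < p ^ n)
    (H : ∀ i j, i < p ^ n → j < p ^ n →
      ((i + j).choose i : R) * f.coeff (i + j) = f.coeff i * f.coeff j) :
    ∃ a : ℕ → R, (∀ k, a k ^ p = 0) ∧ f = prodExp p a n := by
  rw [← Polynomial.coeff_zero_eq_eval_zero] at h0
  obtain ⟨hz, hd, hcoef⟩ := eq_prodExp hp f.coeff h0 n H
  refine ⟨fun k => if k < n then f.coeff (p ^ k) else 0, fun k => ?_, ?_⟩
  · beta_reduce
    split
    case isTrue h => exact hz k h
    case isFalse => exact zero_pow (Fact.out : p.Prime).ne_zero
  · have e : prodExp p (fun k => if k < n then f.coeff (p ^ k) else 0) n =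
        prodExp p (fun k => f.coeff (p ^ k)) n := by
      refine Finset.prod_congr rfl fun k hk => ?_
      simp only [if_pos (mem_range.mp hk)]
    rw [e]
    ext i
    rcases Nat.lt_or_ge i (p ^ n) with hi | hi
    · exact (hcoef i hi).symm
    · rw [Polynomial.coeff_eq_zero_of_natDegree_lt (lt_of_lt_of_le hdeg hi),
        Polynomial.coeff_eq_zero_of_natDegree_lt (lt_of_lt_of_le hd hi)]

omit [Fact p.Prime] in
theorem rec_of_mul_mod {P : ℕ} {f : Polynomial R}
    (h : Polynomial.aeval (X 0 + X 1 : MvPolynomial (Fin 2) R) f -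
      Polynomial.aeval (X 0 : MvPolynomial (Fin 2) R) f * Polynomial.aeval (X 1 : MvPolynomial (Fin 2) R) f ∈
        Ideal.span {(X 0 ^ P : MvPolynomial (Fin 2) R), X 1 ^ P})
    (i j : ℕ) (hi : i < P) (hj : j < P) :
    ((i + j).choose i : R) * f.coeff (i + j) = f.coeff i * f.coeff j := by
  rw [← coeff_aeval_add, ← coeff_aeval_mul_aeval, ← sub_eq_zero, ← coeff_sub]
  obtain ⟨u, v, huv⟩ := Ideal.mem_span_pair.mp h
  rw [← huv, coeff_add, X_pow_eq_monomial, X_pow_eq_monomial, coeff_mul_monomial', coeff_mul_monomial',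
    if_neg, if_neg, add_zero]
  · rw [Finsupp.single_le_iff, m2_one]; omega
  · rw [Finsupp.single_le_iff, m2_zero]; omega

end Groth.Agent.GaSplit
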