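import Groth.Agent.GaSplit.Char

/-! Normal form of symmetric additive two-cocycles in characteristic `p`. -/

set_option autoImplicit false
universe u

namespace Groth.Agent.GaSplit

open MvPolynomial Finset

variable {R : Type u} [CommRing R] (p : ℕ)

/-- `((X + Y) ^ p - X ^ p - Y ^ p) / p`. -/
noncomputable def cp (R : Type u) [CommRing R] : MvPolynomial (Fin 2) R :=
  ∑ j ∈ Ioo 0 p, C ((p.choose j / p : ℕ) : R) * X 0 ^ j * X 1 ^ (p - j)

noncomputable def form (G : Polynomial R) (N : ℕ) (r : ℕ → R) : MvPolynomial (Fin 2) R :=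
  Polynomial.aeval (X 0 + X 1 : MvPolynomial (Fin 2) R) G
    - Polynomial.aeval (X 0 : MvPolynomial (Fin 2) R) G
    - Polynomial.aeval (X 1 : MvPolynomial (Fin 2) R) G
  + ∑ i ∈ range N, C (r i) * MvPolynomial.aeval ![(X 0 : MvPolynomial (Fin 2) R) ^ p ^ i, X 1 ^ p ^ i] (cp p R)

theorem form_add (G G' : Polynomial R) (N N' : ℕ) (r r' : ℕ → R) :
    ∃ (G'' : Polynomial R) (N'' : ℕ) (r'' : ℕ → R),
      form p G N r + form p G' N' r' = form p G'' N'' r'' := by
  refine ⟨G + G', max N N', fun i => (if i < N then r i else 0) + (if i < N' then r' i else 0), ?_⟩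
  have hext : ∀ (M : ℕ) (s : ℕ → R), M ≤ max N N' →
      ∑ i ∈ range M, C (s i) * MvPolynomial.aeval ![(X 0 : MvPolynomial (Fin 2) R) ^ p ^ i, X 1 ^ p ^ i] (cp p R) =
      ∑ i ∈ range (max N N'), C (if i < M then s i else 0) *
        MvPolynomial.aeval ![(X 0 : MvPolynomial (Fin 2) R) ^ p ^ i, X 1 ^ p ^ i] (cp p R) := by
    intro M s hM
    rw [← Finset.sum_subset (Finset.range_mono hM) fun i _ hi => by
      rw [if_neg (by simpa using hi), map_zero, zero_mul]]
    exact Finset.sum_congr rfl fun i hi => by rw [if_pos (mem_range.mp hi)]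
  simp only [form, map_add, hext N r (le_max_left _ _), hext N' r' (le_max_right _ _), add_mul,
    Finset.sum_add_distrib]
  ring

variable {p} [Fact p.Prime]

theorem coeff_aeval_xy0 (g : MvPolynomial (Fin 2) R) (i j : ℕ) :
    coeff (m3 i j 0) (MvPolynomial.aeval ![(X 0 : MvPolynomial (Fin 3) R), X 1] g) = coeff (m2 i j) g := by
  induction g using MvPolynomial.induction_on' with
  | add f g hf hg => simp only [map_add, coeff_add, hf, hg]
  | monomial m c =>
    have e : MvPolynomial.aeval ![(X 0 : MvPolynomial (Fin 3) R), X 1] (monomial m c) =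
        monomial (m3 (m 0) (m 1) 0) c := by
      conv_lhs => rw [eq_m2 m]
      rw [monomial_m2, monomial_m3]
      simp
    rw [e, coeff_monomial, coeff_monomial]
    refine if_congr ⟨fun h => ?_, fun h => ?_⟩ rfl rfl
    · rw [eq_m2 m, (m3_inj h).1, (m3_inj h).2.1]
    · subst h; simp

theorem exists_form (hp : (p : R) = 0) {F : MvPolynomial (Fin 2) R}
    (hs : MvPolynomial.aeval ![(X 1 : MvPolynomial (Fin 2) R), X 0] F = F)
    (hc : MvPolynomial.aeval ![(X 0 : MvPolynomial (Fin 3) R), X 1 + X 2] F
          + MvPolynomial.aeval ![X 1, X 2] F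
          - MvPolynomial.aeval ![X 0 + X 1, X 2] F
          - MvPolynomial.aeval ![X 0, X 1] F = (0 : MvPolynomial (Fin 3) R)) :
    ∃ (G : Polynomial R) (N : ℕ) (r : ℕ → R), F = form p G N r := by
  have hp' : p.Prime := Fact.out
  have hsym : ∀ i j, coeff (m2 i j) F = coeff (m2 j i) F := by
    intro i j
    conv_lhs => rw [← hs]
    exact coeff_aeval_swap F i j
  have hrec : ∀ n, IsCocycleSeq n fun i => coeff (m2 i (n - i)) F := by
    intro n
    refine ⟨fun i m h1 h2 h3 => ?_, fun i h1 h2 => ?_⟩
    · have e := congrArg (coeff (m3 i (m - i) (n - m))) hc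
      rw [coeff_sub, coeff_sub, coeff_add, coeff_aeval_yz F _ _ _ (by omega), coeff_aeval_right,
        coeff_aeval_left, coeff_aeval_xy F _ _ _ (by omega), coeff_zero, add_zero, sub_zero,
        show m - i + (n - m) = n - i by omega, show i + (m - i) = m by omega, sub_eq_zero] at e
      exact e
    · rw [hsym, show n - (n - i) = i by omega]
  have hleft : ∀ i, i ≠ 0 → coeff (m2 i 0) F = 0 := by
    intro i hi
    have e := congrArg (coeff (m3 i 0 0)) hc
    rw [coeff_sub, coeff_sub, coeff_add, coeff_aeval_yz F _ _ _ hi, coeff_aeval_right, coeff_aeval_left,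
      coeff_aeval_xy0, coeff_zero] at e
    simpa using e
  have hpart : ∀ n, ∃ (G : Polynomial R) (N : ℕ) (r : ℕ → R), part F n = form p G N r := by
    intro n
    rcases Nat.eq_zero_or_pos n with rfl | hn0
    · refine ⟨Polynomial.C (-coeff (m2 0 0) F), 0, 0, ?_⟩
      simp [form, part, monomial_m2]
    have hend : ∀ i, i = 0 ∨ i = n → coeff (m2 i (n - i)) F = 0 := by
      rintro i (rfl | rfl)
      · rw [Nat.sub_zero, hsym, hleft n (by omega)]
      · rw [Nat.sub_self, hleft i (by omega)]
    by_cases hn : n = 1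
    · subst hn
      refine ⟨0, 0, 0, ?_⟩
      rw [show form p (0 : Polynomial R) 0 0 = 0 by simp [form]]
      refine Finset.sum_eq_zero fun i hi => ?_
      rw [mem_range] at hi
      rw [hend i (by omega), monomial_zero]
    by_cases hpow : ∃ k, n = p ^ k
    · obtain ⟨k, rfl⟩ := hpow
      obtain ⟨t, rfl⟩ : ∃ t, k = t + 1 := ⟨k - 1, by rcases k with - | k <;> simp at hn ⊢⟩
      obtain ⟨hzero, hval⟩ := (hrec (p ^ (t + 1))).eq_of_primePow hp
      have hq : 0 < p ^ t := pow_pos hp'.pos t
      refine ⟨0, t + 1, fun i => if i = t then coeff (m2 (p ^ t) (p ^ (t + 1) - p ^ t)) F else 0, ?_⟩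
      rw [form, Finset.sum_eq_single_of_mem t (mem_range.mpr (by omega))]
      · simp only [map_zero, sub_zero, zero_add, if_pos, cp, map_sum, Finset.mul_sum]
        have hterm : ∀ r ∈ Ioo 0 p, C (coeff (m2 (p ^ t) (p ^ (t + 1) - p ^ t)) F) *
            MvPolynomial.aeval ![(X 0 : MvPolynomial (Fin 2) R) ^ p ^ t, X 1 ^ p ^ t]
              (C ((p.choose r / p : ℕ) : R) * X 0 ^ r * X 1 ^ (p - r)) =
            monomial (m2 (r * p ^ t) (p ^ (t + 1) - r * p ^ t))
              (coeff (m2 (r * p ^ t) (p ^ (t + 1) - r * p ^ t)) F) := by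
          intro r hr
          rw [mem_Ioo] at hr
          have h3 := hval r hr.1 hr.2
          have hdvd : p ∣ p.choose r := hp'.dvd_choose_self (by omega) hr.2
          have hnat : p.choose r / p * (r.factorial * (p - r).factorial) = (p - 1).factorial := by
            apply Nat.eq_of_mul_eq_mul_left hp'.pos
            rw [← mul_assoc, Nat.mul_div_cancel' hdvd, ← mul_assoc,
              Nat.choose_mul_factorial_mul_factorial hr.2.le, Nat.mul_factorial_pred hp'.ne_zero]
          have hw : (((p - 1).factorial : ℕ) : R) = -1 := by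
            have h1 : ((((p - 1).factorial + 1 : ℕ)) : ZMod p) = 0 := by
              push_cast
              rw [ZMod.wilsons_lemma, neg_add_cancel]
            rw [ZMod.natCast_eq_zero_iff] at h1
            obtain ⟨c, hc'⟩ := h1
            have := congrArg (Nat.cast (R := R)) hc'
            push_cast at this
            rw [hp, zero_mul] at this
            linear_combination this
          have hnat' := congrArg (Nat.cast (R := R)) hnat
          rw [hw] at hnat'
          push_cast at hnat' h3
          have hcoef : coeff (m2 (r * p ^ t) (p ^ (t + 1) - r * p ^ t)) F =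
              ((p.choose r / p : ℕ) : R) * coeff (m2 (p ^ t) (p ^ (t + 1) - p ^ t)) F := by
            linear_combination (-((p.choose r / p : ℕ) : R)) * h3 +
              coeff (m2 (r * p ^ t) (p ^ (t + 1) - r * p ^ t)) F * hnat'
          rw [hcoef, monomial_m2, map_mul]
          simp only [map_mul, map_pow, aeval_C, aeval_X, Matrix.cons_val_zero, Matrix.cons_val_one,
            MvPolynomial.algebraMap_eq, ← pow_mul]
          rw [show p ^ (t + 1) - r * p ^ t = p ^ t * (p - r) by
            rw [Nat.mul_sub, pow_succ, mul_comm r]]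
          ring
        rw [Finset.sum_congr rfl hterm, part]
        refine (Finset.sum_bij_ne_zero (fun r _ _ => r * p ^ t) ?_ ?_ ?_ ?_).symm
        · intro r hr _
          rw [mem_Ioo] at hr
          rw [mem_range, pow_succ']
          have := Nat.mul_le_mul_right (p ^ t) hr.2.le
          omega
        · intro r _ _ r' _ _ h
          exact Nat.eq_of_mul_eq_mul_right hq h
        · intro i hi hne
          rw [mem_range] at hi
          have hne' : coeff (m2 i (p ^ (t + 1) - i)) F ≠ 0 := fun h => hne (by rw [h, monomial_zero])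
          have hi0 : i ≠ 0 := fun h => hne' (hend i (Or.inl h))
          have hin : i ≠ p ^ (t + 1) := fun h => hne' (hend i (Or.inr h))
          obtain ⟨r, hr⟩ : p ^ t ∣ i := by
            by_contra hnd
            exact hne' (hzero i (by omega) (by omega) hnd)
          refine ⟨r, mem_Ioo.mpr ⟨?_, ?_⟩, ?_, (mul_comm _ _).trans hr.symm⟩
          · rcases Nat.eq_zero_or_pos r with rfl | h
            · simp at hr; omega
            · exact h
          · refine Nat.lt_of_mul_lt_mul_left (a := p ^ t) ?_
            rw [← hr, ← pow_succ]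
            omega
          · rw [show r * p ^ t = i by rw [hr, mul_comm]]
            exact hne
        · intro r _ _
          rfl
      · intro i _ hi
        rw [if_neg hi, map_zero, zero_mul]
    · simp only [not_exists] at hpow
      obtain ⟨q, x, hq1, hq2, hval⟩ := (hrec n).eq_choose hp (by omega) hpow
      refine ⟨Polynomial.monomial n ((x : R) * coeff (m2 q (n - q)) F), 0, 0, ?_⟩
      rw [form, Finset.range_zero, Finset.sum_empty, add_zero]
      ext m
      rw [eq_m2 m]
      generalize m 0 = i
      generalize m 1 = j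
      rw [coeff_sub, coeff_sub, coeff_aeval_add]
      have e0 := coeff_aeval_mul_aeval (Polynomial.monomial n ((x : R) * coeff (m2 q (n - q)) F)) 1 i j
      have e1 := coeff_aeval_mul_aeval 1 (Polynomial.monomial n ((x : R) * coeff (m2 q (n - q)) F)) i j
      rw [map_one, mul_one] at e0
      rw [map_one, one_mul] at e1
      rw [e0, e1, part, coeff_sum]
      simp only [coeff_monomial, Polynomial.coeff_monomial, Polynomial.coeff_one]
      by_cases hij : i + j = n
      · subst hij
        rw [Finset.sum_eq_single_of_mem i (mem_range.mpr (by omega)), Nat.add_sub_cancel_left, if_pos rfl,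
          if_pos rfl]
        · rcases Nat.eq_zero_or_pos i with rfl | hi
          · have h := hend 0 (Or.inl rfl)
            rw [zero_add, Nat.sub_zero] at h
            simp only [zero_add, h]
            by_cases hj : j = 0
            · omega
            · simp [hj]
          rcases Nat.eq_zero_or_pos j with rfl | hj
          · have h := hend i (Or.inr rfl)
            rw [Nat.add_sub_cancel_left] at h
            simp only [add_zero, h]
            simp [hi.ne']
          have h := hval i hi (by omega)
          simp only [Nat.add_sub_cancel_left] at h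
          rw [h, if_neg hi.ne', if_neg hj.ne', if_neg (by omega), if_neg (by omega)]
          ring
        · intro l _ hl
          exact if_neg fun h => hl (m2_inj h).1
      · rw [Finset.sum_eq_zero]
        · rw [if_neg (Ne.symm hij), mul_zero]
          rcases Nat.eq_zero_or_pos i with rfl | hi
          · rcases Nat.eq_zero_or_pos j with rfl | hj
            · rw [if_neg (by omega)]; simp
            · rw [if_neg (show ¬ n = 0 by omega), if_neg (show ¬ n = j by omega)]; simp
          · rcases Nat.eq_zero_or_pos j with rfl | hj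
            · rw [if_neg (show ¬ n = i by omega), if_neg (show ¬ n = 0 by omega)]; simp
            · rw [if_neg hi.ne', if_neg hj.ne']; simp
        · intro l hl
          refine if_neg fun h => hij ?_
          obtain ⟨h1, h2⟩ := m2_inj h
          rw [mem_range] at hl
          omega
  obtain ⟨D, hD⟩ := exists_sum_part F
  suffices ∀ D, ∃ (G : Polynomial R) (N : ℕ) (r : ℕ → R), ∑ n ∈ range D, part F n = form p G N r by
    rw [← hD]
    exact this D
  intro D
  induction D with
  | zero => exact ⟨0, 0, 0, by simp [form]⟩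
  | succ D ih =>
    obtain ⟨G, N, r, h⟩ := ih
    obtain ⟨G', N', r', h'⟩ := hpart D
    rw [Finset.sum_range_succ, h, h']
    exact form_add p G G' N N' r r'

variable (p) in
/-- `((a + b) ^ p - a ^ p - b ^ p) / p` in an arbitrary ring. -/
def cpOf {S : Type*} [CommRing S] (a b : S) : S :=
  ∑ j ∈ Ioo 0 p, ((p.choose j / p : ℕ) : S) * a ^ j * b ^ (p - j)

omit [Fact p.Prime] in
theorem map_cpOf {S T : Type*} [CommRing S] [CommRing T] (φ : S →+* T) (a b : S) :
    φ (cpOf p a b) = cpOf p (φ a) (φ b) := by
  simp only [cpOf, map_sum, map_mul, map_pow, map_natCast]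

theorem mul_cpOf {S : Type*} [CommRing S] (a b : S) :
    (p : S) * cpOf p a b = (a + b) ^ p - a ^ p - b ^ p := by
  rw [add_pow_prime_eq' (Fact.out : p.Prime), cpOf, Finset.mul_sum, Finset.mul_sum]
  rw [show ∀ u v w : S, u + v + w - u - v = w by intros; ring]
  exact Finset.sum_congr rfl fun j _ => by ring

theorem cpOf_comm {S : Type*} [CommRing S] (a b : S) : cpOf p b a = cpOf p a b := by
  have hz : cpOf p (X 1 : MvPolynomial (Fin 2) ℤ) (X 0) = cpOf p (X 0) (X 1) := by
    have hne : (p : MvPolynomial (Fin 2) ℤ) ≠ 0 := by exact_mod_cast (Fact.out : p.Prime).ne_zero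
    apply mul_left_cancel₀ hne
    rw [mul_cpOf, mul_cpOf, add_comm (X 0 : MvPolynomial (Fin 2) ℤ) (X 1)]
    ring
  have h := congrArg (MvPolynomial.eval₂Hom (Int.castRingHom S) ![a, b]) hz
  rw [map_cpOf, map_cpOf] at h
  simpa using h

theorem cpOf_cocycle {S : Type*} [CommRing S] (a b c : S) :
    cpOf p a (b + c) + cpOf p b c - cpOf p (a + b) c - cpOf p a b = 0 := by
  have hne : (p : MvPolynomial (Fin 3) ℤ) ≠ 0 := by exact_mod_cast (Fact.out : p.Prime).ne_zero
  have hz : cpOf p (X 0 : MvPolynomial (Fin 3) ℤ) (X 1 + X 2) + cpOf p (X 1) (X 2) -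
      cpOf p (X 0 + X 1) (X 2) - cpOf p (X 0) (X 1) = 0 := by
    refine (mul_eq_zero.mp (?_ : (p : MvPolynomial (Fin 3) ℤ) * _ = 0)).resolve_left hne
    rw [mul_sub, mul_sub, mul_add, mul_cpOf, mul_cpOf, mul_cpOf, mul_cpOf]
    ring
  have h := congrArg (MvPolynomial.eval₂Hom (Int.castRingHom S) ![a, b, c]) hz
  simp only [map_sub, map_add, map_zero, map_cpOf] at h
  simpa using h

omit [Fact p.Prime] in
theorem aeval_cp {σ : Type} (a b : MvPolynomial σ R) :
    MvPolynomial.aeval ![a, b] (cp p R) = cpOf p a b := by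
  simp only [cp, cpOf, map_sum, map_mul, map_pow, aeval_X, map_natCast, Matrix.cons_val_zero,
    Matrix.cons_val_one]

theorem form_isCocycle (hp : (p : R) = 0) (G : Polynomial R) (N : ℕ) (r : ℕ → R) :
    MvPolynomial.aeval ![(X 1 : MvPolynomial (Fin 2) R), X 0] (form p G N r) = form p G N r ∧
      MvPolynomial.aeval ![(X 0 : MvPolynomial (Fin 3) R), X 1 + X 2] (form p G N r)
          + MvPolynomial.aeval ![X 1, X 2] (form p G N r)
          - MvPolynomial.aeval ![X 0 + X 1, X 2] (form p G N r)
          - MvPolynomial.aeval ![X 0, X 1] (form p G N r) = (0 : MvPolynomial (Fin 3) R) := by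
  have hp' : p.Prime := Fact.out
  have hcomp : ∀ {σ : Type} (a b : MvPolynomial σ R) (i : ℕ),
      MvPolynomial.aeval ![a, b]
        (MvPolynomial.aeval ![(X 0 : MvPolynomial (Fin 2) R) ^ p ^ i, X 1 ^ p ^ i] (cp p R)) =
      cpOf p (a ^ p ^ i) (b ^ p ^ i) := by
    intro σ a b i
    rw [← AlgHom.comp_apply, comp_aeval, ← aeval_cp]
    congr 2
    ext l : 1
    fin_cases l <;> simp
  have hG : ∀ {σ : Type} (a b : MvPolynomial σ R), MvPolynomial.aeval ![a, b]
      (Polynomial.aeval (X 0 + X 1 : MvPolynomial (Fin 2) R) G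
        - Polynomial.aeval (X 0 : MvPolynomial (Fin 2) R) G
        - Polynomial.aeval (X 1 : MvPolynomial (Fin 2) R) G) =
      Polynomial.aeval (a + b) G - Polynomial.aeval a G - Polynomial.aeval b G := by
    intro σ a b
    simp [← Polynomial.aeval_algHom_apply]
  have hform : ∀ {σ : Type} (a b : MvPolynomial σ R), MvPolynomial.aeval ![a, b] (form p G N r) =
      Polynomial.aeval (a + b) G - Polynomial.aeval a G - Polynomial.aeval b G +
        ∑ i ∈ range N, C (r i) * cpOf p (a ^ p ^ i) (b ^ p ^ i) := by
    intro σ a b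
    rw [form, map_add, hG, map_sum]
    congr 1
    refine Finset.sum_congr rfl fun i _ => ?_
    rw [map_mul, hcomp, aeval_C, MvPolynomial.algebraMap_eq]
  have hid : form p G N r = MvPolynomial.aeval ![(X 0 : MvPolynomial (Fin 2) R), X 1] (form p G N r) := by
    conv_lhs => rw [← MvPolynomial.aeval_X_left_apply (form p G N r)]
    congr 2
    ext l : 1
    fin_cases l <;> simp
  constructor
  · conv_rhs => rw [hid]
    rw [hform, hform, add_comm (X 1 : MvPolynomial (Fin 2) R) (X 0)]
    simp only [cpOf_comm (p := p) (X 0 ^ p ^ _ : MvPolynomial (Fin 2) R)]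
    ring
  · have hq : (p : MvPolynomial (Fin 3) R) = 0 := by
      rw [← map_natCast (C : R →+* MvPolynomial (Fin 3) R), hp, map_zero]
    have hsum : ∑ i ∈ range N, C (r i) * cpOf p ((X 0 : MvPolynomial (Fin 3) R) ^ p ^ i) ((X 1 + X 2) ^ p ^ i) +
        ∑ i ∈ range N, C (r i) * cpOf p ((X 1 : MvPolynomial (Fin 3) R) ^ p ^ i) (X 2 ^ p ^ i) -
        ∑ i ∈ range N, C (r i) * cpOf p (((X 0 : MvPolynomial (Fin 3) R) + X 1) ^ p ^ i) (X 2 ^ p ^ i) -
        ∑ i ∈ range N, C (r i) * cpOf p ((X 0 : MvPolynomial (Fin 3) R) ^ p ^ i) (X 1 ^ p ^ i) = 0 := by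
      rw [← Finset.sum_add_distrib, ← Finset.sum_sub_distrib, ← Finset.sum_sub_distrib]
      refine Finset.sum_eq_zero fun i _ => ?_
      rw [add_pow_char_pow hq, add_pow_char_pow hq]
      linear_combination C (r i) * cpOf_cocycle (p := p) ((X 0 : MvPolynomial (Fin 3) R) ^ p ^ i) (X 1 ^ p ^ i) (X 2 ^ p ^ i)
    rw [hform, hform, hform, hform, ← add_assoc (X 0 : MvPolynomial (Fin 3) R) (X 1) (X 2)]
    linear_combination hsum

end Groth.Agent.GaSplit
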