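import Groth.Agent.GaSplit.Char

/-! Formal characters of the additive group. -/

set_option autoImplicit false
universe u

namespace Groth.Agent.GaSplit

variable {A : Type u} [CommRing A]

theorem coeff_subst_X (χ : PowerSeries A) (t : Fin 2) (m : Fin 2 →₀ ℕ) :
    MvPowerSeries.coeff m (PowerSeries.subst (MvPowerSeries.X t : MvPowerSeries (Fin 2) A) χ) =
      if m = Finsupp.single t (m t) then PowerSeries.coeff (m t) χ else 0 := by
  classical
  rw [PowerSeries.coeff_subst (PowerSeries.HasSubst.X t)]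
  rw [finsum_eq_single _ (m t)]
  · rw [MvPowerSeries.coeff_X_pow]
    split <;> simp
  · intro d hd
    rw [MvPowerSeries.coeff_X_pow, if_neg, smul_zero]
    intro h
    exact hd (by rw [h]; simp)

theorem coeff_subst_add (χ : PowerSeries A) (i j : ℕ) :
    MvPowerSeries.coeff (m2 i j)
      (PowerSeries.subst (MvPowerSeries.X 0 + MvPowerSeries.X 1 : MvPowerSeries (Fin 2) A) χ) =
      ((i + j).choose i : A) * PowerSeries.coeff (i + j) χ := by
  have ha : PowerSeries.HasSubst (MvPowerSeries.X 0 + MvPowerSeries.X 1 : MvPowerSeries (Fin 2) A) :=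
    PowerSeries.HasSubst.of_constantCoeff_zero (by simp)
  have hpow : ∀ d, MvPowerSeries.coeff (m2 i j)
      ((MvPowerSeries.X 0 + MvPowerSeries.X 1 : MvPowerSeries (Fin 2) A) ^ d) =
        ((i + j).choose i : A) * (Polynomial.X ^ d : Polynomial A).coeff (i + j) := by
    intro d
    have e : ((MvPowerSeries.X 0 + MvPowerSeries.X 1 : MvPowerSeries (Fin 2) A) ^ d) =
        ((MvPolynomial.X 0 + MvPolynomial.X 1 : MvPolynomial (Fin 2) A) ^ d : MvPolynomial (Fin 2) A) := by
      simp
    rw [e, MvPolynomial.coeff_coe, ← coeff_aeval_add]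
    simp
  rw [PowerSeries.coeff_subst ha, finsum_eq_single _ (i + j)]
  · rw [hpow, Polynomial.coeff_X_pow, if_pos rfl, smul_eq_mul]
    ring
  · intro d hd
    rw [hpow, Polynomial.coeff_X_pow, if_neg hd.symm, mul_zero, smul_zero]

theorem coeff_subst_mul (χ : PowerSeries A) (i j : ℕ) :
    MvPowerSeries.coeff (m2 i j)
      (PowerSeries.subst (MvPowerSeries.X 0 : MvPowerSeries (Fin 2) A) χ *
        PowerSeries.subst (MvPowerSeries.X 1 : MvPowerSeries (Fin 2) A) χ) =
      PowerSeries.coeff i χ * PowerSeries.coeff j χ := by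
  classical
  rw [MvPowerSeries.coeff_mul, Finset.sum_eq_single (m2 i 0, m2 0 j)]
  · rw [coeff_subst_X, coeff_subst_X, if_pos, if_pos]
    · simp
    · simp [m2]
    · simp [m2]
  · rintro ⟨u, v⟩ huv hne
    rw [Finset.HasAntidiagonal.mem_antidiagonal] at huv
    dsimp only at huv ⊢
    rw [coeff_subst_X, coeff_subst_X]
    by_cases h1 : u = Finsupp.single 0 (u 0)
    · by_cases h2 : v = Finsupp.single 1 (v 1)
      · refine absurd ?_ hne
        have e0 := DFunLike.congr_fun huv 0
        have e1 := DFunLike.congr_fun huv 1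
        rw [Finsupp.add_apply, m2_zero] at e0
        rw [Finsupp.add_apply, m2_one] at e1
        have hv0 : v 0 = 0 := by rw [h2]; simp
        have hu1 : u 1 = 0 := by rw [h1]; simp
        rw [eq_m2 u, eq_m2 v, hu1, hv0, show u 0 = i by omega, show v 1 = j by omega]
      · rw [if_neg h2, mul_zero]
    · rw [if_neg h1, zero_mul]
  · intro h
    exact absurd (Finset.HasAntidiagonal.mem_antidiagonal.mpr (by simp [m2])) h

theorem formal_iff (χ : PowerSeries A) :
    (PowerSeries.subst (MvPowerSeries.X 0 + MvPowerSeries.X 1 : MvPowerSeries (Fin 2) A) χ =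
      PowerSeries.subst (MvPowerSeries.X 0 : MvPowerSeries (Fin 2) A) χ *
        PowerSeries.subst (MvPowerSeries.X 1 : MvPowerSeries (Fin 2) A) χ) ↔
      ∀ i j, ((i + j).choose i : A) * PowerSeries.coeff (i + j) χ =
        PowerSeries.coeff i χ * PowerSeries.coeff j χ := by
  refine ⟨fun h i j => ?_, fun h => MvPowerSeries.ext fun m => ?_⟩
  · rw [← coeff_subst_add, ← coeff_subst_mul, h]
  · rw [eq_m2 m, coeff_subst_add, coeff_subst_mul, h]

theorem charP_formal {p : ℕ} [Fact p.Prime] (hp : (p : A) = 0) (χ : PowerSeries A) :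
    (PowerSeries.constantCoeff χ = 1 ∧
      PowerSeries.subst (MvPowerSeries.X 0 + MvPowerSeries.X 1 : MvPowerSeries (Fin 2) A) χ =
        PowerSeries.subst (MvPowerSeries.X 0 : MvPowerSeries (Fin 2) A) χ *
          PowerSeries.subst (MvPowerSeries.X 1 : MvPowerSeries (Fin 2) A) χ) ↔
      ∃ a : ℕ → A, (∀ n, a n ^ p = 0) ∧ ∀ m : ℕ, PowerSeries.trunc (p ^ m) χ = prodExp p a m := by
  have hp' : p.Prime := Fact.out
  rw [formal_iff, ← PowerSeries.coeff_zero_eq_constantCoeff_apply]
  constructor
  · rintro ⟨h0, H⟩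
    have hm := fun m => eq_prodExp hp (fun i => PowerSeries.coeff i χ) h0 m fun i j _ _ => H i j
    refine ⟨fun k => PowerSeries.coeff (p ^ k) χ, fun k => (hm (k + 1)).1 k (by omega), fun m => ?_⟩
    ext i
    rw [PowerSeries.coeff_trunc]
    split
    case isTrue h => exact ((hm m).2.2 i h).symm
    case isFalse h =>
      rw [Polynomial.coeff_eq_zero_of_natDegree_lt]
      exact lt_of_lt_of_le (hm m).2.1 (by omega)
  · rintro ⟨a, ha, htr⟩
    have key : ∀ m i, i < p ^ m → PowerSeries.coeff i χ = (prodExp p a m).coeff i := by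
      intro m i hi
      rw [← htr m, PowerSeries.coeff_trunc, if_pos hi]
    refine ⟨?_, fun i j => ?_⟩
    · rw [key 0 0 (by simp)]
      simp [prodExp]
    · have hlt : i + j < p ^ (i + j + 1) :=
        lt_of_lt_of_le (Nat.lt_pow_self hp'.one_lt) (Nat.pow_le_pow_right hp'.pos (by omega))
      rw [key _ _ hlt, key (i + j + 1) i (by omega), key (i + j + 1) j (by omega)]
      exact rec_of_mul (prodExp_mul hp a ha _) i j

theorem exp_rec [Algebra ℚ A] (a : A) (i j : ℕ) :
    ((i + j).choose i : A) * PowerSeries.coeff (i + j) (PowerSeries.rescale a (PowerSeries.exp A)) =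
      PowerSeries.coeff i (PowerSeries.rescale a (PowerSeries.exp A)) *
        PowerSeries.coeff j (PowerSeries.rescale a (PowerSeries.exp A)) := by
  simp only [PowerSeries.coeff_rescale, PowerSeries.coeff_exp]
  have h : ((i + j).choose i : ℚ) * (1 / ((i + j).factorial : ℚ)) =
      1 / (i.factorial : ℚ) * (1 / (j.factorial : ℚ)) := by
    rw [Nat.cast_add_choose]
    have h1 : (i.factorial : ℚ) ≠ 0 := by exact_mod_cast i.factorial_ne_zero
    have h2 : (j.factorial : ℚ) ≠ 0 := by exact_mod_cast j.factorial_ne_zero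
    have h3 : ((i + j).factorial : ℚ) ≠ 0 := by exact_mod_cast (i + j).factorial_ne_zero
    field_simp
  have h' := congrArg (algebraMap ℚ A) h
  rw [map_mul, map_mul, map_natCast] at h'
  rw [pow_add]
  linear_combination a ^ i * a ^ j * h'

theorem eq_exp [Algebra ℚ A] (χ : PowerSeries A) (h0 : PowerSeries.coeff 0 χ = 1)
    (H : ∀ i j, ((i + j).choose i : A) * PowerSeries.coeff (i + j) χ =
        PowerSeries.coeff i χ * PowerSeries.coeff j χ) :
    χ = PowerSeries.rescale (PowerSeries.coeff 1 χ) (PowerSeries.exp A) := by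
  set a := PowerSeries.coeff 1 χ
  ext n
  induction n with
  | zero => simp [h0]
  | succ n ih =>
    have h1 := H n 1
    have h2 := exp_rec a n 1
    have ha : PowerSeries.coeff 1 (PowerSeries.rescale a (PowerSeries.exp A)) = a := by simp
    rw [Nat.choose_succ_self_right] at h1 h2
    rw [ha, ← ih, ← h1] at h2
    have hu : IsUnit ((n + 1 : ℕ) : A) := by
      rw [← map_natCast (algebraMap ℚ A)]
      exact (isUnit_iff_ne_zero.mpr (by exact_mod_cast Nat.succ_ne_zero n)).map _
    exact hu.mul_left_cancel h2.symm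

theorem ratAlgebra_formal [Algebra ℚ A] (χ : PowerSeries A) :
    (PowerSeries.constantCoeff χ = 1 ∧
      PowerSeries.subst (MvPowerSeries.X 0 + MvPowerSeries.X 1 : MvPowerSeries (Fin 2) A) χ =
        PowerSeries.subst (MvPowerSeries.X 0 : MvPowerSeries (Fin 2) A) χ *
          PowerSeries.subst (MvPowerSeries.X 1 : MvPowerSeries (Fin 2) A) χ) ↔
      ∃ a : A, χ = PowerSeries.rescale a (PowerSeries.exp A) := by
  rw [formal_iff, ← PowerSeries.coeff_zero_eq_constantCoeff_apply]
  refine ⟨fun h => ⟨_, eq_exp χ h.1 h.2⟩, ?_⟩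
  rintro ⟨a, rfl⟩
  exact ⟨by simp, exp_rec a⟩

theorem ratAlgebra_poly [Algebra ℚ A] (f : Polynomial A) :
    (f.eval 0 = 1 ∧
      Polynomial.aeval (MvPolynomial.X 0 + MvPolynomial.X 1 : MvPolynomial (Fin 2) A) f =
        Polynomial.aeval (MvPolynomial.X 0 : MvPolynomial (Fin 2) A) f *
          Polynomial.aeval (MvPolynomial.X 1 : MvPolynomial (Fin 2) A) f) ↔
      ∃ a : A, IsNilpotent a ∧ (f : PowerSeries A) = PowerSeries.rescale a (PowerSeries.exp A) := by
  rw [← Polynomial.coeff_zero_eq_eval_zero]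
  constructor
  · rintro ⟨h0, h⟩
    have e := eq_exp (f : PowerSeries A) (by simpa using h0) fun i j => by
      simpa only [Polynomial.coeff_coe] using rec_of_mul h i j
    refine ⟨_, ⟨f.natDegree + 1, ?_⟩, e⟩
    have h2 := congrArg (PowerSeries.coeff (f.natDegree + 1)) e
    rw [Polynomial.coeff_coe, Polynomial.coeff_eq_zero_of_natDegree_lt (by omega),
      PowerSeries.coeff_rescale, PowerSeries.coeff_exp] at h2
    have hu : IsUnit (algebraMap ℚ A (1 / ((f.natDegree + 1).factorial : ℚ))) := by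
      refine (isUnit_iff_ne_zero.mpr ?_).map _
      exact one_div_ne_zero (by exact_mod_cast Nat.factorial_ne_zero _)
    exact hu.mul_left_eq_zero.mp h2.symm
  · rintro ⟨a, -, hf⟩
    have hc : ∀ i, f.coeff i = PowerSeries.coeff i (PowerSeries.rescale a (PowerSeries.exp A)) :=
      fun i => by rw [← hf, Polynomial.coeff_coe]
    refine ⟨by rw [hc]; simp, MvPolynomial.ext _ _ fun m => ?_⟩
    rw [eq_m2 m, coeff_aeval_add, coeff_aeval_mul_aeval, hc, hc, hc, exp_rec]

end Groth.Agent.GaSplit
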