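import Mathlib

/-! Symmetric additive two-cocycles in characteristic `p` (Lazard's lemma), coefficientwise. -/

set_option autoImplicit false
universe u

namespace Groth.Agent.GaSplit

variable {R : Type u} [CommRing R] {p : ℕ} [Fact p.Prime]

theorem cast_eq_of_modEq (hp : (p : R) = 0) {a b : ℕ} (h : a ≡ b [MOD p]) : (a : R) = b := by
  rw [← Nat.mod_add_div a p, ← Nat.mod_add_div b p, show a % p = b % p from h]
  simp [hp]

theorem exists_inv (hp : (p : R) = 0) {m : ℕ} (h : ¬ p ∣ m) : ∃ x : ℕ, (x : R) * m = 1 := by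
  have hp' : p.Prime := Fact.out
  obtain ⟨x, -, hx⟩ := Nat.exists_mul_mod_eq_one_of_coprime
    (((Nat.Prime.coprime_iff_not_dvd hp').mpr h).symm) hp'.one_lt
  refine ⟨x, ?_⟩
  rw [← Nat.cast_mul, mul_comm]
  refine (cast_eq_of_modEq hp (a := m * x) (b := 1) ?_).trans Nat.cast_one
  rw [Nat.ModEq, hx, Nat.mod_eq_of_lt hp'.one_lt]

theorem eq_zero_of_mul (hp : (p : R) = 0) {m : ℕ} (h : ¬ p ∣ m) {x : R} (hx : (m : R) * x = 0) :
    x = 0 := by
  obtain ⟨y, hy⟩ := exists_inv hp h
  rw [← one_mul x, ← hy, mul_assoc, hx, mul_zero]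

theorem choose_pow_modEq (v a b x : ℕ) (hx : x < p ^ v) :
    (p ^ v * a + x).choose (p ^ v * b) ≡ a.choose b [MOD p] := by
  induction v generalizing x with
  | zero =>
    obtain rfl : x = 0 := by simp at hx; omega
    simp [Nat.ModEq]
  | succ v ih =>
    have hp' : p.Prime := Fact.out
    have h := Choose.choose_modEq_choose_mod_mul_choose_div_nat (p := p)
      (n := p ^ (v + 1) * a + x) (k := p ^ (v + 1) * b)
    have h1 : p ^ (v + 1) * b % p = 0 := Nat.dvd_iff_mod_eq_zero.mp (dvd_mul_of_dvd_left (dvd_pow_self p (by omega)) b)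
    have h2 : p ^ (v + 1) * b / p = p ^ v * b := by
      rw [pow_succ', mul_assoc, Nat.mul_div_cancel_left _ hp'.pos]
    have h3 : (p ^ (v + 1) * a + x) / p = p ^ v * a + x / p := by
      rw [pow_succ', mul_assoc, Nat.mul_add_div hp'.pos]
    rw [h1, h2, h3, Nat.choose_zero_right, one_mul] at h
    exact h.trans (ih (x / p) (Nat.div_lt_of_lt_mul (by rwa [← pow_succ'])))

theorem choose_sub_one_not_dvd {r : ℕ} : ¬ p ∣ (p - 1).choose r ∨ p ≤ r := by
  by_cases hr : r < p
  · refine Or.inl fun h => ?_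
    have hp' : p.Prime := Fact.out
    have h2 : (p - 1).choose r * r.factorial * (p - 1 - r).factorial = (p - 1).factorial :=
      Nat.choose_mul_factorial_mul_factorial (by omega)
    have h3 : p ∣ (p - 1).factorial := by
      rw [← h2]
      exact dvd_mul_of_dvd_left (dvd_mul_of_dvd_left h _) _
    rw [hp'.dvd_factorial] at h3
    have := hp'.pos
    omega
  · exact Or.inr (by omega)

/-- The coefficient recursion satisfied by a symmetric additive cocycle of degree `n`. -/
structure IsCocycleSeq (n : ℕ) (a : ℕ → R) : Prop where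
  rec_eq : ∀ i m, 1 ≤ i → i < m → m < n →
    ((n - i).choose (m - i) : R) * a i = (m.choose i : R) * a m
  symm : ∀ i, 1 ≤ i → i < n → a i = a (n - i)

variable {n : ℕ} {a : ℕ → R}

/-- A coefficient is zero once the coefficient at the lowest digit is. -/
theorem IsCocycleSeq.eq_zero_of_lowest (H : IsCocycleSeq n a) (hp : (p : R) = 0) {i v : ℕ}
    (hi : i < n) (hdvd : p ^ v ∣ i) (hndvd : ¬ p ^ (v + 1) ∣ i) (hv : a (p ^ v) = 0) : a i = 0 := by
  have hp' : p.Prime := Fact.out
  obtain ⟨c, rfl⟩ := hdvd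
  have hc : ¬ p ∣ c := fun h => hndvd (by rw [pow_succ]; exact mul_dvd_mul_left _ h)
  rcases Nat.lt_or_ge c 2 with hc2 | hc2
  · interval_cases c
    · simp at hc
    · rwa [mul_one]
  · have hpos : 0 < p ^ v := pow_pos hp'.pos v
    have h := H.rec_eq (p ^ v) (p ^ v * c) hpos (by nlinarith) hi
    rw [hv, mul_zero] at h
    have h1 : (((p ^ v * c).choose (p ^ v) : ℕ) : R) = (c : R) := by
      have := choose_pow_modEq (p := p) v c 1 0 hpos
      simpa using cast_eq_of_modEq hp this
    rw [h1] at h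
    exact eq_zero_of_mul hp hc h.symm

theorem exists_lowest {i : ℕ} (hi : 0 < i) : ∃ v, p ^ v ∣ i ∧ ¬ p ^ (v + 1) ∣ i ∧ p ^ v ≤ i := by
  refine ⟨padicValNat p i, pow_padicValNat_dvd, pow_succ_padicValNat_not_dvd hi.ne', ?_⟩
  exact Nat.le_of_dvd hi pow_padicValNat_dvd

omit [Fact p.Prime] in
theorem IsCocycleSeq.sub (H : IsCocycleSeq n a) (c : R) :
    IsCocycleSeq n (fun i => a i - c * (n.choose i : R)) := by
  refine ⟨fun i m h1 h2 h3 => ?_, fun i h1 h2 => ?_⟩
  · have key : (n.choose m * m.choose i : R) = (n.choose i * (n - i).choose (m - i) : R) := by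
      rw [← Nat.cast_mul, ← Nat.cast_mul, Nat.choose_mul h2.le]
    have := H.rec_eq i m h1 h2 h3
    linear_combination this + c * key
  · rw [H.symm i h1 h2, Nat.choose_symm h2.le]

/-- Non prime power degree: coboundary. -/
theorem IsCocycleSeq.eq_choose (H : IsCocycleSeq n a) (hp : (p : R) = 0) (hn : 1 < n)
    (hnp : ∀ k, n ≠ p ^ k) :
    ∃ q x : ℕ, 1 ≤ q ∧ q < n ∧ ∀ i, 1 ≤ i → i < n → a i = (x : R) * a q * (n.choose i : R) := by
  have hp' : p.Prime := Fact.out
  let t := Nat.log p n
  let q := p ^ t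
  have hqn : q ≤ n := Nat.pow_log_le_self p (by omega)
  have hqlt : q < n := lt_of_le_of_ne hqn (fun h => hnp t h.symm)
  have hnq : n < p * q := by
    have := Nat.lt_pow_succ_log_self hp'.one_lt n
    rwa [pow_succ'] at this
  have hqpos : 0 < q := pow_pos hp'.pos t
  have hdig : ∀ m, q ≤ m → m < p * q → ¬ p ∣ m / q := by
    intro m hm1 hm2 hd
    have h1 : 0 < m / q := Nat.div_pos hm1 hqpos
    have h2 : m / q < p := Nat.div_lt_of_lt_mul (by rwa [mul_comm])
    have := Nat.le_of_dvd h1 hd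
    omega
  have hchoose : ∀ m, ((m.choose q : ℕ) : R) = ((m / q : ℕ) : R) := by
    intro m
    have h := choose_pow_modEq (p := p) t (m / q) 1 (m % q) (Nat.mod_lt _ hqpos)
    rw [Nat.div_add_mod, mul_one, Nat.choose_one_right] at h
    exact cast_eq_of_modEq hp h
  obtain ⟨x, hx⟩ := exists_inv hp (hdig n hqn hnq)
  refine ⟨q, x, hqpos, hqlt, fun i hi1 hi2 => ?_⟩
  let a' := fun i => a i - (x : R) * a q * (n.choose i : R)
  have H' : IsCocycleSeq n a' := H.sub _
  have hq0 : a' q = 0 := by
    simp only [a', hchoose]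
    linear_combination (-a q) * hx
  have hlo : ∀ v, v < t → q + p ^ v ≤ n → a' (p ^ v) = 0 := by
    intro v hv hle
    rcases hle.eq_or_lt with heq | hlt
    · rw [H'.symm _ (pow_pos hp'.pos v) (by omega), show n - p ^ v = q by omega, hq0]
    have hvq : p ^ v < q := Nat.pow_lt_pow_right hp'.one_lt hv
    have h1 := H'.rec_eq q (q + p ^ v) hqpos (by have := pow_pos hp'.pos v; omega) hlt
    rw [hq0, mul_zero, hchoose] at h1
    have hd : (q + p ^ v) / q = 1 := by
      rw [Nat.add_div_left _ hqpos, Nat.div_eq_of_lt hvq]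
    rw [hd, Nat.cast_one, one_mul] at h1
    have h2 := H'.rec_eq (p ^ v) (q + p ^ v) (pow_pos hp'.pos v) (by omega) hlt
    rw [← h1, mul_zero, Nat.add_sub_cancel, hchoose] at h2
    exact eq_zero_of_mul hp (hdig (n - p ^ v) (by omega) (by omega)) h2
  have hall : ∀ v, p ^ v < n → a' (p ^ v) = 0 := by
    intro v hv
    have hvt : v ≤ t := Nat.le_log_of_pow_le hp'.one_lt hv.le
    rcases hvt.eq_or_lt with rfl | hvt
    · exact hq0
    by_cases hle : q + p ^ v ≤ n
    · exact hlo v hvt hle
    obtain ⟨u, hu1, hu2, hu3⟩ := exists_lowest (p := p) (i := n - q) (by omega)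
    have huv : u < v := (Nat.pow_lt_pow_iff_right hp'.one_lt).mp (by omega : p ^ u < p ^ v)
    rw [H'.symm _ (pow_pos hp'.pos v) hv]
    have he : n - p ^ v = (q - p ^ v) + (n - q) := by
      have := Nat.pow_lt_pow_right hp'.one_lt hvt
      omega
    have hd : p ^ (u + 1) ∣ q - p ^ v :=
      Nat.dvd_sub (pow_dvd_pow p (by omega)) (pow_dvd_pow p (by omega))
    refine H'.eq_zero_of_lowest hp (v := u) (by have := pow_pos hp'.pos v; omega) ?_ ?_
      (hlo u (by omega) (by omega))
    · rw [he]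
      exact dvd_add ((pow_dvd_pow p (Nat.le_succ u)).trans hd) hu1
    · rw [he]
      exact fun h => hu2 ((Nat.dvd_add_right hd).mp h)
  obtain ⟨v, hv1, hv2, hv3⟩ := exists_lowest (p := p) hi1
  exact sub_eq_zero.mp (H'.eq_zero_of_lowest hp hi2 hv1 hv2 (hall v (by omega)))

/-- Prime power degree. -/
theorem IsCocycleSeq.eq_of_primePow {t : ℕ} (H : IsCocycleSeq (p ^ (t + 1)) a) (hp : (p : R) = 0) :
    (∀ i, 1 ≤ i → i < p ^ (t + 1) → ¬ p ^ t ∣ i → a i = 0) ∧
      ∀ r, 1 ≤ r → r < p →
        (r.factorial * (p - r).factorial : ℕ) * a (r * p ^ t) = -a (p ^ t) := by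
  have hp' : p.Prime := Fact.out
  constructor
  · intro i hi1 hi2 hnd
    obtain ⟨v, hv1, hv2, hv3⟩ := exists_lowest (p := p) hi1
    have hvt : v < t := by
      by_contra hle
      exact hnd ((pow_dvd_pow p (by omega)).trans hv1)
    refine H.eq_zero_of_lowest hp hi2 hv1 hv2 ?_
    have hpos : 0 < p ^ v := pow_pos hp'.pos v
    have h1lt : p ^ v < p ^ (v + 1) := Nat.pow_lt_pow_right hp'.one_lt (by omega)
    have h2lt : p ^ (v + 1) < p ^ (t + 1) := Nat.pow_lt_pow_right hp'.one_lt (by omega)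
    have h := H.rec_eq (p ^ v) (p ^ (v + 1)) hpos h1lt h2lt
    have hR : (((p ^ (v + 1)).choose (p ^ v) : ℕ) : R) = 0 := by
      have := choose_pow_modEq (p := p) v p 1 0 hpos
      rw [mul_one, add_zero, Nat.choose_one_right, ← pow_succ] at this
      rw [cast_eq_of_modEq hp this, hp]
    rw [hR, zero_mul] at h
    have hL : (((p ^ (t + 1) - p ^ v).choose (p ^ (v + 1) - p ^ v) : ℕ) : R) = 1 := by
      have e1 : p ^ (t + 1) - p ^ v = p ^ v * (p ^ (t + 1 - v) - 1) := by
        rw [Nat.mul_sub, ← pow_add, mul_one]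
        congr 2
        omega
      have e2 : p ^ (v + 1) - p ^ v = p ^ v * (p - 1) := by rw [Nat.mul_sub, ← pow_succ, mul_one]
      rw [e1, e2]
      have h3 := choose_pow_modEq (p := p) v (p ^ (t + 1 - v) - 1) (p - 1) 0 hpos
      rw [add_zero] at h3
      refine (cast_eq_of_modEq hp (b := 1) (h3.trans ?_)).trans Nat.cast_one
      obtain ⟨s, hs⟩ : ∃ s, t + 1 - v = s + 1 := ⟨t - v, by omega⟩
      rw [hs]
      have h4 := Choose.choose_modEq_choose_mod_mul_choose_div_nat (p := p)
        (n := p ^ (s + 1) - 1) (k := p - 1)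
      have e3 : p ^ (s + 1) - 1 = p * (p ^ s - 1) + (p - 1) := by
        have := Nat.one_le_pow s p hp'.pos
        rw [Nat.mul_sub, ← pow_succ', mul_one]
        have : p ≤ p ^ (s + 1) := Nat.le_self_pow (by omega) p
        have := hp'.pos
        omega
      rw [e3] at h4 ⊢
      rw [Nat.mul_add_mod, Nat.mod_eq_of_lt (by have := hp'.pos; omega : p - 1 < p),
        Nat.choose_self, one_mul, Nat.div_eq_of_lt (by have := hp'.pos; omega : p - 1 < p),
        Nat.choose_zero_right] at h4
      exact h4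
    rwa [hL, one_mul] at h
  · intro r hr1 hr2
    have hq : 0 < p ^ t := pow_pos hp'.pos t
    have key : (r : R) * a (r * p ^ t) = ((p - 1).choose (r - 1) : R) * a (p ^ t) := by
      rcases hr1.eq_or_lt with rfl | hr
      · simp
      have hlt : r * p ^ t < p ^ (t + 1) := by
        rw [pow_succ']
        exact (Nat.mul_lt_mul_right hq).mpr hr2
      have h := H.rec_eq (p ^ t) (r * p ^ t) hq (lt_mul_of_one_lt_left hq hr) hlt
      have e1 : p ^ (t + 1) - p ^ t = p ^ t * (p - 1) := by rw [Nat.mul_sub, ← pow_succ, mul_one]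
      have e2 : r * p ^ t - p ^ t = p ^ t * (r - 1) := by rw [Nat.mul_sub, mul_one, mul_comm]
      have h1 := cast_eq_of_modEq hp (choose_pow_modEq (p := p) t (p - 1) (r - 1) 0 hq)
      have h2 := cast_eq_of_modEq hp (choose_pow_modEq (p := p) t r 1 0 hq)
      rw [add_zero, ← e1, ← e2] at h1
      rw [add_zero, mul_one, Nat.choose_one_right, mul_comm] at h2
      rw [h1, h2] at h
      exact h.symm
    have hw : (((p - 1).factorial : ℕ) : R) = -1 := by
      have h1 : ((((p - 1).factorial + 1 : ℕ)) : ZMod p) = 0 := by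
        push_cast
        rw [ZMod.wilsons_lemma, neg_add_cancel]
      rw [ZMod.natCast_eq_zero_iff] at h1
      obtain ⟨c, hc⟩ := h1
      have := congrArg (Nat.cast (R := R)) hc
      push_cast at this
      rw [hp, zero_mul] at this
      linear_combination this
    have hfac : r.factorial = r * (r - 1).factorial := (Nat.mul_factorial_pred (by omega)).symm
    have hcm : (p - 1).choose (r - 1) * (r - 1).factorial * (p - r).factorial = (p - 1).factorial := by
      have := Nat.choose_mul_factorial_mul_factorial (n := p - 1) (k := r - 1) (by omega)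
      rwa [show p - 1 - (r - 1) = p - r by omega] at this
    rw [hfac]
    have hcm' := congrArg (Nat.cast (R := R)) hcm
    push_cast at hcm' ⊢
    linear_combination ((r - 1).factorial * (p - r).factorial : R) * key + a (p ^ t) * hcm' + a (p ^ t) * hw

end Groth.Agent.GaSplit
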