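import Groth.Agent.GaSplit.Lazard

/-! Killing a cocycle modulo a smaller ideal. -/

set_option autoImplicit false
universe u

namespace Groth.Agent.GaSplit

open MvPolynomial Finset

variable {R : Type u} [CommRing R]

noncomputable def m2 (i j : ℕ) : Fin 2 →₀ ℕ := Finsupp.single 0 i + Finsupp.single 1 j

noncomputable def m3 (i j k : ℕ) : Fin 3 →₀ ℕ :=
  Finsupp.single 0 i + Finsupp.single 1 j + Finsupp.single 2 k

@[simp] theorem m2_zero (i j : ℕ) : m2 i j 0 = i := by simp [m2]
@[simp] theorem m2_one (i j : ℕ) : m2 i j 1 = j := by simp [m2]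
@[simp] theorem m3_zero (i j k : ℕ) : m3 i j k 0 = i := by simp [m3]
@[simp] theorem m3_one (i j k : ℕ) : m3 i j k 1 = j := by simp [m3]
@[simp] theorem m3_two (i j k : ℕ) : m3 i j k 2 = k := by simp [m3]

theorem eq_m2 (m : Fin 2 →₀ ℕ) : m = m2 (m 0) (m 1) := by
  ext i; fin_cases i <;> simp

theorem m2_inj {i j i' j' : ℕ} (h : m2 i j = m2 i' j') : i = i' ∧ j = j' :=
  ⟨by simpa using DFunLike.congr_fun h 0, by simpa using DFunLike.congr_fun h 1⟩

theorem m3_inj {i j k i' j' k' : ℕ} (h : m3 i j k = m3 i' j' k') : i = i' ∧ j = j' ∧ k = k' :=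
  ⟨by simpa using DFunLike.congr_fun h 0, by simpa using DFunLike.congr_fun h 1,
    by simpa using DFunLike.congr_fun h 2⟩

theorem monomial_m2 (i j : ℕ) (c : R) :
    monomial (m2 i j) c = C c * X 0 ^ i * X 1 ^ j := by
  rw [monomial_eq, m2, Finsupp.prod_fintype _ _ (fun _ => pow_zero _), Fin.prod_univ_two]
  simp [mul_assoc]

theorem monomial_m3 (i j k : ℕ) (c : R) :
    monomial (m3 i j k) c = C c * X 0 ^ i * X 1 ^ j * X 2 ^ k := by
  rw [monomial_eq, m3, Finsupp.prod_fintype _ _ (fun _ => pow_zero _), Fin.prod_univ_three]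
  simp [mul_assoc]

theorem coeff_aeval_right (g : MvPolynomial (Fin 2) R) (i j k : ℕ) :
    coeff (m3 i j k) (MvPolynomial.aeval ![(X 0 : MvPolynomial (Fin 3) R), X 1 + X 2] g) =
      ((j + k).choose j : R) * coeff (m2 i (j + k)) g := by
  induction g using MvPolynomial.induction_on' with
  | add f g hf hg => simp only [map_add, coeff_add, hf, hg, mul_add]
  | monomial m c =>
    rw [eq_m2 m]
    generalize m 0 = α
    generalize m 1 = β
    have e : MvPolynomial.aeval ![(X 0 : MvPolynomial (Fin 3) R), X 1 + X 2] (monomial (m2 α β) c) =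
        ∑ l ∈ range (β + 1), monomial (m3 α l (β - l)) ((β.choose l : R) * c) := by
      rw [monomial_m2, map_mul, map_mul, map_pow, map_pow, aeval_X, aeval_X]
      simp only [Matrix.cons_val_zero, Matrix.cons_val_one, aeval_C, MvPolynomial.algebraMap_eq]
      rw [add_pow, Finset.mul_sum]
      refine Finset.sum_congr rfl fun l _ => ?_
      rw [monomial_m3, map_mul, map_natCast]
      ring
    rw [e, coeff_sum, coeff_monomial]
    simp only [coeff_monomial]
    split_ifs with h
    · obtain ⟨rfl, rfl⟩ := m2_inj h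
      rw [Finset.sum_eq_single j]
      · simp
      · intro l _ hl
        exact if_neg fun h' => hl (m3_inj h').2.1
      · intro hj; simp at hj
    · rw [mul_zero]
      refine Finset.sum_eq_zero fun l hl => if_neg fun h' => h ?_
      obtain ⟨h1, h2, h3⟩ := m3_inj h'
      rw [Finset.mem_range] at hl
      congr 1
      omega

theorem coeff_aeval_left (g : MvPolynomial (Fin 2) R) (i j k : ℕ) :
    coeff (m3 i j k) (MvPolynomial.aeval ![(X 0 : MvPolynomial (Fin 3) R) + X 1, X 2] g) =
      ((i + j).choose i : R) * coeff (m2 (i + j) k) g := by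
  induction g using MvPolynomial.induction_on' with
  | add f g hf hg => simp only [map_add, coeff_add, hf, hg, mul_add]
  | monomial m c =>
    rw [eq_m2 m]
    generalize m 0 = α
    generalize m 1 = β
    have e : MvPolynomial.aeval ![(X 0 : MvPolynomial (Fin 3) R) + X 1, X 2] (monomial (m2 α β) c) =
        ∑ l ∈ range (α + 1), monomial (m3 l (α - l) β) ((α.choose l : R) * c) := by
      rw [monomial_m2, map_mul, map_mul, map_pow, map_pow, aeval_X, aeval_X]
      simp only [Matrix.cons_val_zero, Matrix.cons_val_one, aeval_C, MvPolynomial.algebraMap_eq]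
      rw [add_pow, Finset.mul_sum, Finset.sum_mul]
      refine Finset.sum_congr rfl fun l _ => ?_
      rw [monomial_m3, map_mul, map_natCast]
      ring
    rw [e, coeff_sum, coeff_monomial]
    simp only [coeff_monomial]
    split_ifs with h
    · obtain ⟨rfl, rfl⟩ := m2_inj h
      rw [Finset.sum_eq_single i]
      · simp
      · intro l _ hl
        exact if_neg fun h' => hl (m3_inj h').1
      · intro hj; simp at hj
    · rw [mul_zero]
      refine Finset.sum_eq_zero fun l hl => if_neg fun h' => h ?_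
      obtain ⟨h1, h2, h3⟩ := m3_inj h'
      rw [Finset.mem_range] at hl
      congr 1
      omega

theorem coeff_aeval_yz (g : MvPolynomial (Fin 2) R) (i j k : ℕ) (hi : i ≠ 0) :
    coeff (m3 i j k) (MvPolynomial.aeval ![(X 1 : MvPolynomial (Fin 3) R), X 2] g) = 0 := by
  induction g using MvPolynomial.induction_on' with
  | add f g hf hg => simp only [map_add, coeff_add, hf, hg, add_zero]
  | monomial m c =>
    have e : MvPolynomial.aeval ![(X 1 : MvPolynomial (Fin 3) R), X 2] (monomial m c) =
        monomial (m3 0 (m 0) (m 1)) c := by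
      conv_lhs => rw [eq_m2 m]
      rw [monomial_m2, monomial_m3]
      simp
    rw [e, coeff_monomial, if_neg]
    exact fun h => hi (m3_inj h).1.symm

theorem coeff_aeval_xy (g : MvPolynomial (Fin 2) R) (i j k : ℕ) (hk : k ≠ 0) :
    coeff (m3 i j k) (MvPolynomial.aeval ![(X 0 : MvPolynomial (Fin 3) R), X 1] g) = 0 := by
  induction g using MvPolynomial.induction_on' with
  | add f g hf hg => simp only [map_add, coeff_add, hf, hg, add_zero]
  | monomial m c =>
    have e : MvPolynomial.aeval ![(X 0 : MvPolynomial (Fin 3) R), X 1] (monomial m c) =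
        monomial (m3 (m 0) (m 1) 0) c := by
      conv_lhs => rw [eq_m2 m]
      rw [monomial_m2, monomial_m3]
      simp
    rw [e, coeff_monomial, if_neg]
    exact fun h => hk (m3_inj h).2.2.symm

theorem coeff_aeval_swap (g : MvPolynomial (Fin 2) R) (i j : ℕ) :
    coeff (m2 i j) (MvPolynomial.aeval ![(X 1 : MvPolynomial (Fin 2) R), X 0] g) = coeff (m2 j i) g := by
  induction g using MvPolynomial.induction_on' with
  | add f g hf hg => simp only [map_add, coeff_add, hf, hg, add_zero]
  | monomial m c =>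
    have e : MvPolynomial.aeval ![(X 1 : MvPolynomial (Fin 2) R), X 0] (monomial m c) =
        monomial (m2 (m 1) (m 0)) c := by
      conv_lhs => rw [eq_m2 m]
      rw [monomial_m2, monomial_m2]
      simp
      ring
    rw [e, coeff_monomial, coeff_monomial]
    refine if_congr ⟨fun h => ?_, fun h => ?_⟩ rfl rfl
    · rw [eq_m2 m, (m2_inj h).1, (m2_inj h).2]
    · subst h; simp

theorem coeff_aeval_zero (g : MvPolynomial (Fin 2) R) (i : ℕ) :
    coeff (m2 i 0) (MvPolynomial.aeval ![(X 0 : MvPolynomial (Fin 2) R), 0] g) = coeff (m2 i 0) g := by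
  induction g using MvPolynomial.induction_on' with
  | add f g hf hg => simp only [map_add, coeff_add, hf, hg, add_zero]
  | monomial m c =>
    by_cases h1 : m 1 = 0
    · have e : MvPolynomial.aeval ![(X 0 : MvPolynomial (Fin 2) R), 0] (monomial m c) = monomial m c := by
        conv_lhs => rw [eq_m2 m]
        conv_rhs => rw [eq_m2 m]
        rw [monomial_m2]
        simp [h1]
      rw [e]
    · have e : MvPolynomial.aeval ![(X 0 : MvPolynomial (Fin 2) R), 0] (monomial m c) = 0 := by
        conv_lhs => rw [eq_m2 m]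
        rw [monomial_m2]
        simp [zero_pow h1]
      rw [e, coeff_zero, coeff_monomial, if_neg]
      exact fun h => h1 (by rw [h]; simp)

theorem aeval_mul_aeval_eq_zero {σ τ : Type} (g g' : MvPolynomial σ R)
    (h : ∀ m m', coeff m g * coeff m' g' = 0) (f f' : σ → MvPolynomial τ R) :
    MvPolynomial.aeval f g * MvPolynomial.aeval f' g' = 0 := by
  rw [g.as_sum, g'.as_sum, map_sum, map_sum, Finset.sum_mul_sum]
  refine Finset.sum_eq_zero fun m _ => Finset.sum_eq_zero fun m' _ => ?_
  rw [aeval_monomial, aeval_monomial, mul_mul_mul_comm, ← map_mul, h, map_zero, zero_mul]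

/-- A normalised symmetric multiplicative two-cocycle. -/
structure IsCoc (h : MvPolynomial (Fin 2) R) : Prop where
  norm : MvPolynomial.aeval ![(X 0 : MvPolynomial (Fin 2) R), 0] h = 1
  symm : MvPolynomial.aeval ![(X 1 : MvPolynomial (Fin 2) R), X 0] h = h
  coc : MvPolynomial.aeval ![(X 1 : MvPolynomial (Fin 3) R), X 2] h *
        MvPolynomial.aeval ![X 0, X 1 + X 2] h =
      MvPolynomial.aeval ![X 0 + X 1, X 2] h *
        MvPolynomial.aeval ![(X 0 : MvPolynomial (Fin 3) R), X 1] h

theorem IsCoc.mul {h h' : MvPolynomial (Fin 2) R} (H : IsCoc h) (H' : IsCoc h') : IsCoc (h * h') := by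
  refine ⟨by rw [map_mul, H.norm, H'.norm, one_mul], by rw [map_mul, H.symm, H'.symm], ?_⟩
  simp only [map_mul]
  rw [mul_mul_mul_comm, H.coc, H'.coc, mul_mul_mul_comm]

/-- The coboundary attached to a pair of mutually inverse polynomials. -/
noncomputable def cob (u v : Polynomial R) : MvPolynomial (Fin 2) R :=
  Polynomial.aeval (X 0 + X 1 : MvPolynomial (Fin 2) R) u *
    Polynomial.aeval (X 0 : MvPolynomial (Fin 2) R) v *
    Polynomial.aeval (X 1 : MvPolynomial (Fin 2) R) v

theorem cob_mul (u v u' v' : Polynomial R) : cob (u * u') (v * v') = cob u v * cob u' v' := by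
  simp only [cob, map_mul]
  ring

theorem isCoc_cob (u v : Polynomial R) (huv : u * v = 1) (h0 : u.coeff 0 = 1) : IsCoc (cob u v) := by
  have hv0 : v.coeff 0 = 1 := by
    have := congrArg (Polynomial.coeff · 0) huv
    simpa [Polynomial.mul_coeff_zero, h0] using this
  have hone : ∀ {σ : Type} (z : MvPolynomial σ R), Polynomial.aeval z u * Polynomial.aeval z v = 1 := by
    intro σ z
    rw [← map_mul, huv, map_one]
  refine ⟨?_, ?_, ?_⟩
  · simp only [cob, map_mul, ← Polynomial.aeval_algHom_apply, map_add, aeval_X, Matrix.cons_val_zero,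
      Matrix.cons_val_one, add_zero]
    rw [hone, one_mul, ← Polynomial.coeff_zero_eq_aeval_zero', hv0, map_one]
  · simp only [cob, map_mul, ← Polynomial.aeval_algHom_apply, map_add, aeval_X, Matrix.cons_val_zero,
      Matrix.cons_val_one]
    rw [add_comm (X 1 : MvPolynomial (Fin 2) R) (X 0)]
    ring
  · simp only [cob, map_mul, ← Polynomial.aeval_algHom_apply, map_add, aeval_X, Matrix.cons_val_zero,
      Matrix.cons_val_one]
    have e1 := hone (X 1 + X 2 : MvPolynomial (Fin 3) R)
    have e2 := hone (X 0 + X 1 : MvPolynomial (Fin 3) R)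
    rw [show (X 0 + (X 1 + X 2) : MvPolynomial (Fin 3) R) = X 0 + X 1 + X 2 by ring]
    linear_combination (Polynomial.aeval (X 0 + X 1 + X 2 : MvPolynomial (Fin 3) R) u *
      Polynomial.aeval (X 0 : MvPolynomial (Fin 3) R) v *
      Polynomial.aeval (X 1 : MvPolynomial (Fin 3) R) v *
      Polynomial.aeval (X 2 : MvPolynomial (Fin 3) R) v) * (e1 - e2)

theorem map_cob {Q : Type u} [CommRing Q] (φ : R →+* Q) (u v : Polynomial R) :
    MvPolynomial.map φ (cob u v) = cob (u.map φ) (v.map φ) := by
  have h : ∀ (z : MvPolynomial (Fin 2) R) (w : Polynomial R),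
      MvPolynomial.map φ (Polynomial.aeval z w) = Polynomial.aeval (MvPolynomial.map φ z) (w.map φ) := by
    intro z w
    induction w using Polynomial.induction_on' with
    | add f g hf hg => simp [hf, hg]
    | monomial n c => simp [Polynomial.aeval_monomial]
  simp [cob, h]

variable {p : ℕ} [Fact p.Prime]

theorem sum_mul_sum_truncExp (hp : (p : R) = 0) (e : ℕ → R)
    (he : ∀ i, i < p → e i * (i.factorial : R) = 1) (β S T : R) (hβ : β ^ (p + 1) = 0) :
    (∑ i ∈ range p, e i * β ^ i * S ^ i) * (∑ j ∈ range p, e j * β ^ j * T ^ j) =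
      (∑ n ∈ range p, e n * β ^ n * (S + T) ^ n) +
        β ^ p * ∑ r ∈ Ico 1 p, e r * e (p - r) * S ^ r * T ^ (p - r) := by
  have hp' : p.Prime := Fact.out
  have key : ∀ i j, i + j < p →
      e i * e j = e (i + j) * (((i + j).choose i : ℕ) : R) := by
    intro i j hij
    have h1 := congrArg (Nat.cast (R := R)) (Nat.choose_mul_factorial_mul_factorial (Nat.le_add_right i j))
    rw [Nat.add_sub_cancel_left] at h1
    push_cast at h1
    linear_combination (e (i + j) * ((i + j).choose i : R) * e j * (j.factorial : R)) * he i (by omega) +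
      (e (i + j) * ((i + j).choose i : R)) * he j (by omega) - (e i * e j) * he (i + j) hij -
      (e (i + j) * e i * e j) * h1
  let f : ℕ → ℕ → R := fun i j => e i * β ^ i * S ^ i * (e j * β ^ j * T ^ j)
  have h2 : ∀ i ∈ range p, ∑ j ∈ range p, f i j = ∑ j ∈ range (p - i), f i j +
      (if 1 ≤ i then β ^ p * (e i * e (p - i) * S ^ i * T ^ (p - i)) else 0) := by
    intro i hi
    rw [mem_range] at hi
    rcases Nat.eq_zero_or_pos i with rfl | hpos
    · simp
    rw [if_pos (show 1 ≤ i from hpos), ← Finset.sum_range_add_sum_Ico _ (show p - i ≤ p by omega)]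
    congr 1
    rw [Finset.sum_eq_single_of_mem (p - i) (Finset.mem_Ico.mpr ⟨le_rfl, by omega⟩)]
    · have hb : β ^ p = β ^ i * β ^ (p - i) := by
        rw [← pow_add]
        congr 1
        omega
      simp only [f, hb]
      ring
    · intro j hj hne
      rw [Finset.mem_Ico] at hj
      obtain ⟨s, hs⟩ : ∃ s, i + j = p + 1 + s := ⟨i + j - (p + 1), by omega⟩
      have : β ^ i * β ^ j = 0 := by rw [← pow_add, hs, pow_add, hβ, zero_mul]
      simp only [f]
      linear_combination (e i * S ^ i * e j * T ^ j) * this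
  rw [Finset.sum_mul_sum]
  change ∑ i ∈ range p, ∑ j ∈ range p, f i j = _
  rw [Finset.sum_congr rfl h2, Finset.sum_add_distrib]
  congr 1
  · rw [← Finset.sum_range_diag_flip]
    refine Finset.sum_congr rfl fun n hn => ?_
    rw [add_pow, Finset.mul_sum]
    refine Finset.sum_congr rfl fun i hi => ?_
    rw [mem_range] at hn hi
    obtain ⟨j, rfl⟩ : ∃ j, n = i + j := ⟨n - i, by omega⟩
    have := key i j hn
    simp only [f, Nat.add_sub_cancel_left, pow_add]
    linear_combination (β ^ i * β ^ j * S ^ i * T ^ j) * this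
  · rw [← Finset.sum_filter, Finset.mul_sum]
    refine Finset.sum_congr ?_ fun r _ => rfl
    ext r
    simp only [mem_filter, mem_range, mem_Ico]
    omega

variable {Q : Type u} [CommRing Q]

theorem add_pow_char_pow (hp : (p : Q) = 0) (x y : Q) (t : ℕ) :
    (x + y) ^ p ^ t = x ^ p ^ t + y ^ p ^ t := by
  induction t with
  | zero => simp
  | succ t ih =>
    rw [pow_succ, pow_mul, ih, pow_mul, pow_mul,
      (Commute.all (x ^ p ^ t) (y ^ p ^ t)).add_pow_prime_eq (Fact.out : p.Prime), hp]
    ring

/-- Coefficientwise additive cocycle condition. -/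
structure IsAddCoc (g : MvPolynomial (Fin 2) Q) : Prop where
  left0 : ∀ i, coeff (m2 i 0) g = 0
  symm : ∀ i j, coeff (m2 i j) g = coeff (m2 j i) g
  rec_eq : ∀ n, IsCocycleSeq n (fun i => coeff (m2 i (n - i)) g)
  sq_zero : ∀ m m', coeff m g * coeff m' g = 0

theorem isAddCoc_of_isCoc {h : MvPolynomial (Fin 2) Q} (H : IsCoc h)
    (hsq : ∀ m m', coeff m (h - 1) * coeff m' (h - 1) = 0) : IsAddCoc (h - 1) := by
  have hh : h = 1 + (h - 1) := by ring
  have h0 : MvPolynomial.aeval ![(X 0 : MvPolynomial (Fin 2) Q), 0] (h - 1) = 0 := by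
    rw [map_sub, map_one, H.norm, sub_self]
  have hs : MvPolynomial.aeval ![(X 1 : MvPolynomial (Fin 2) Q), X 0] (h - 1) = h - 1 := by
    rw [map_sub, map_one, H.symm]
  have hc := H.coc
  generalize h - 1 = g at hsq hh h0 hs ⊢
  subst hh
  simp only [map_add, map_one] at hc
  have z := aeval_mul_aeval_eq_zero (τ := Fin 3) g g hsq
  have hlin : MvPolynomial.aeval ![(X 1 : MvPolynomial (Fin 3) Q), X 2] g +
        MvPolynomial.aeval ![(X 0 : MvPolynomial (Fin 3) Q), X 1 + X 2] g =
      MvPolynomial.aeval ![(X 0 : MvPolynomial (Fin 3) Q) + X 1, X 2] g +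
        MvPolynomial.aeval ![(X 0 : MvPolynomial (Fin 3) Q), X 1] g := by
    linear_combination hc - z ![(X 1 : MvPolynomial (Fin 3) Q), X 2] ![X 0, X 1 + X 2] +
      z ![(X 0 : MvPolynomial (Fin 3) Q) + X 1, X 2] ![X 0, X 1]
  have hswap : ∀ i j, coeff (m2 i j) g = coeff (m2 j i) g := by
    intro i j
    conv_lhs => rw [← hs]
    exact coeff_aeval_swap g i j
  refine ⟨fun i => ?_, hswap, fun n => ⟨fun i m h1 h2 h3 => ?_, fun i h1 h2 => ?_⟩, hsq⟩
  · rw [← coeff_aeval_zero g i, h0, coeff_zero]
  · have e := congrArg (coeff (m3 i (m - i) (n - m))) hlin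
    rw [coeff_add, coeff_add, coeff_aeval_yz g _ _ _ (by omega), coeff_aeval_right, coeff_aeval_left,
      coeff_aeval_xy g _ _ _ (by omega), zero_add, add_zero, show m - i + (n - m) = n - i by omega,
      show i + (m - i) = m by omega] at e
    exact e
  · rw [hswap, show n - (n - i) = i by omega]

/-- Degree `n` part. -/
noncomputable def part (g : MvPolynomial (Fin 2) Q) (n : ℕ) : MvPolynomial (Fin 2) Q :=
  ∑ i ∈ range (n + 1), monomial (m2 i (n - i)) (coeff (m2 i (n - i)) g)

theorem part_mul_part {g : MvPolynomial (Fin 2) Q} (hsq : ∀ m m', coeff m g * coeff m' g = 0)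
    (n n' : ℕ) : part g n * part g n' = 0 := by
  rw [part, part, Finset.sum_mul_sum]
  refine Finset.sum_eq_zero fun i _ => Finset.sum_eq_zero fun j _ => ?_
  rw [monomial_mul, hsq, monomial_zero]

theorem exists_sum_part (g : MvPolynomial (Fin 2) Q) : ∃ D, ∑ n ∈ range D, part g n = g := by
  refine ⟨g.totalDegree + 1, ?_⟩
  ext m
  rw [eq_m2 m]
  generalize m 0 = i
  generalize m 1 = j
  simp only [coeff_sum, part, coeff_monomial]
  by_cases hm : i + j ≤ g.totalDegree
  · rw [Finset.sum_eq_single_of_mem (i + j) (mem_range.mpr (by omega)),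
      Finset.sum_eq_single_of_mem i (mem_range.mpr (by omega))]
    · rw [Nat.add_sub_cancel_left, if_pos rfl]
    · intro l _ hl
      exact if_neg fun h => hl (m2_inj h).1
    · intro n _ hn
      refine Finset.sum_eq_zero fun l hl => if_neg fun h => hn ?_
      obtain ⟨h1, h2⟩ := m2_inj h
      rw [mem_range] at hl
      omega
  · have : coeff (m2 i j) g = 0 := by
      refine coeff_eq_zero_of_totalDegree_lt ?_
      rw [show ∑ x ∈ (m2 i j).support, m2 i j x = (m2 i j).degree from rfl, Finsupp.degree_eq_sum,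
        Fin.sum_univ_two, m2_zero, m2_one]
      omega
    rw [this]
    refine Finset.sum_eq_zero fun n hn => Finset.sum_eq_zero fun l hl => if_neg fun h => hm ?_
    obtain ⟨h1, h2⟩ := m2_inj h
    rw [mem_range] at hn hl
    omega

theorem cob_map_eq {φ : R →+* Q} (u v : Polynomial R) (huv : u * v = 1) (G : MvPolynomial (Fin 2) Q)
    (hG : Polynomial.aeval (X 0 + X 1 : MvPolynomial (Fin 2) Q) (u.map φ) =
      (1 - G) * (Polynomial.aeval (X 0 : MvPolynomial (Fin 2) Q) (u.map φ) *
        Polynomial.aeval (X 1 : MvPolynomial (Fin 2) Q) (u.map φ))) :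
    MvPolynomial.map φ (cob u v) = 1 - G := by
  have h1 : ∀ z : MvPolynomial (Fin 2) Q,
      Polynomial.aeval z (u.map φ) * Polynomial.aeval z (v.map φ) = 1 := by
    intro z
    rw [← map_mul, ← Polynomial.map_mul, huv, Polynomial.map_one, map_one]
  rw [map_cob, cob, hG]
  linear_combination ((1 - G) * (Polynomial.aeval (X 1 : MvPolynomial (Fin 2) Q) (u.map φ) *
    Polynomial.aeval (X 1 : MvPolynomial (Fin 2) Q) (v.map φ))) * h1 (X 0) + (1 - G) * h1 (X 1)

/-- Killing one homogeneous part. -/
theorem exists_cob_part (hp : (p : R) = 0) (φ : R →+* Q) {g : MvPolynomial (Fin 2) Q}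
    (H : IsAddCoc g)
    (hroot : ∀ m, ∃ b : R, IsNilpotent b ∧ φ b ^ p = -coeff m g ∧ φ b ^ (p + 1) = 0) (n : ℕ) :
    ∃ u v : Polynomial R, u * v = 1 ∧ u.coeff 0 = 1 ∧
      MvPolynomial.map φ (cob u v) = 1 - part g n := by
  have hp' : p.Prime := Fact.out
  have hq : (p : Q) = 0 := by rw [← map_natCast φ, hp, map_zero]
  have hend0 : ∀ n, coeff (m2 0 n) g = 0 := fun n => (H.symm 0 n).trans (H.left0 n)
  by_cases hn : n ≤ 1
  · refine ⟨1, 1, one_mul 1, Polynomial.coeff_one_zero, ?_⟩
    have : part g n = 0 := by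
      refine Finset.sum_eq_zero fun i hi => ?_
      rw [mem_range] at hi
      rcases Nat.eq_zero_or_pos i with rfl | hpos
      · rw [Nat.sub_zero, hend0, monomial_zero]
      · rw [show n - i = 0 by omega, H.left0, monomial_zero]
    rw [this]
    simp [cob]
  by_cases hpow : ∃ k, n = p ^ k
  · obtain ⟨k, rfl⟩ := hpow
    obtain ⟨t, rfl⟩ : ∃ t, k = t + 1 := ⟨k - 1, by rcases k with - | k <;> simp at hn ⊢⟩
    obtain ⟨hzero, hval⟩ := (H.rec_eq (p ^ (t + 1))).eq_of_primePow hq
    let q := p ^ t
    have hqpos : 0 < q := pow_pos hp'.pos t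
    have hnq : p ^ (t + 1) = p * q := pow_succ' p t
    obtain ⟨b, hb, hbp, hbp1⟩ := hroot (m2 q (p ^ (t + 1) - q))
    choose! e he using fun i (hi : i < p) => exists_inv (R := R) hp
      (m := i.factorial) (by rw [hp'.dvd_factorial]; omega)
    let w : Polynomial R := ∑ i ∈ range p, Polynomial.C ((e i : R) * b ^ i) * Polynomial.X ^ (q * i)
    have hw0 : w.coeff 0 = 1 := by
      simp only [w, Polynomial.finsetSum_coeff, Polynomial.coeff_C_mul, Polynomial.coeff_X_pow]
      rw [Finset.sum_eq_single_of_mem 0 (mem_range.mpr hp'.pos)]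
      · have := he 0 hp'.pos
        simpa using this
      · intro i _ hi
        have : q * i ≠ 0 := Nat.mul_ne_zero hqpos.ne' hi
        rw [if_neg this.symm, mul_zero]
    have hnil : IsNilpotent (w - 1) := by
      rw [Polynomial.isNilpotent_iff]
      intro i
      by_cases hi : i = 0
      · subst hi; simp [hw0]
      · rw [Polynomial.coeff_sub, Polynomial.coeff_one, if_neg hi, sub_zero]
        refine (mem_nilradical).mp ?_
        simp only [w, Polynomial.finsetSum_coeff, Polynomial.coeff_C_mul, Polynomial.coeff_X_pow]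
        refine sum_mem fun j hj => ?_
        split_ifs with hij
        · refine Ideal.mul_mem_right _ _ (Ideal.mul_mem_left _ _ ?_)
          rw [mem_nilradical]
          exact hb.pow_of_pos (by rintro rfl; simp at hij; exact hi hij)
        · simp
    have hunit : IsUnit w := by
      have := hnil.isUnit_one_add
      rwa [add_sub_cancel] at this
    obtain ⟨wu, hwu⟩ : ∃ wu : (Polynomial R)ˣ, (wu : Polynomial R) = w := ⟨hunit.unit, rfl⟩
    refine ⟨(wu : Polynomial R), ↑wu⁻¹, wu.mul_inv, hwu ▸ hw0, cob_map_eq _ _ wu.mul_inv _ ?_⟩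
    let β : MvPolynomial (Fin 2) Q := C (φ b)
    let E : ℕ → MvPolynomial (Fin 2) Q := fun i => (e i : MvPolynomial (Fin 2) Q)
    have hqP : (p : MvPolynomial (Fin 2) Q) = 0 := by
      rw [← map_natCast (C : Q →+* MvPolynomial (Fin 2) Q), hq, map_zero]
    have hE : ∀ i, i < p → E i * (i.factorial : MvPolynomial (Fin 2) Q) = 1 := by
      intro i hi
      have := congrArg ((C : Q →+* MvPolynomial (Fin 2) Q).comp φ) (he i hi)
      simpa [E] using this
    have hev : ∀ z : MvPolynomial (Fin 2) Q, Polynomial.aeval z ((wu : Polynomial R).map φ) =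
        ∑ i ∈ range p, E i * β ^ i * (z ^ q) ^ i := by
      intro z
      simp only [hwu, w, Polynomial.map_sum, map_sum]
      refine Finset.sum_congr rfl fun i _ => ?_
      simp [E, β, pow_mul]
    have hβ : β ^ (p + 1) = 0 := by simp only [β, ← map_pow, hbp1, map_zero]
    have hG : part g (p ^ (t + 1)) =
        β ^ p * ∑ r ∈ Ico 1 p, E r * E (p - r) * (X 0 ^ q) ^ r * (X 1 ^ q) ^ (p - r) := by
      have hterm : ∀ r ∈ Ico 1 p, β ^ p * (E r * E (p - r) * (X 0 ^ q) ^ r * (X 1 ^ q) ^ (p - r)) =
          monomial (m2 (r * q) (p ^ (t + 1) - r * q)) (coeff (m2 (r * q) (p ^ (t + 1) - r * q)) g) := by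
        intro r hr
        rw [mem_Ico] at hr
        have h1 : ((e r : ℕ) : Q) * (r.factorial : Q) = 1 := by
          simpa using congrArg φ (he r hr.2)
        have h2 : ((e (p - r) : ℕ) : Q) * ((p - r).factorial : Q) = 1 := by
          simpa using congrArg φ (he (p - r) (by omega))
        have h3 := hval r hr.1 hr.2
        push_cast at h3
        have hc : coeff (m2 (r * q) (p ^ (t + 1) - r * q)) g = φ b ^ p * ((e r : Q) * (e (p - r) : Q)) := by
          linear_combination ((e r : Q) * (e (p - r) : Q)) * h3 -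
            coeff (m2 (r * q) (p ^ (t + 1) - r * q)) g * ((e (p - r) : Q) * (p - r).factorial) * h1 -
            coeff (m2 (r * q) (p ^ (t + 1) - r * q)) g * h2 - ((e r : Q) * (e (p - r) : Q)) * hbp
        rw [hc, monomial_m2]
        simp only [β, E, map_mul, map_pow, map_natCast, ← pow_mul]
        rw [show p ^ (t + 1) - r * q = q * (p - r) by rw [hnq, Nat.mul_sub, mul_comm q p, mul_comm q r],
          mul_comm r q]
        ring
      rw [Finset.mul_sum, Finset.sum_congr rfl hterm, part]
      refine (Finset.sum_bij_ne_zero (fun r _ _ => r * q) ?_ ?_ ?_ ?_).symm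
      · intro r hr _
        rw [mem_Ico] at hr
        rw [mem_range]
        have : r * q ≤ p * q := Nat.mul_le_mul_right q hr.2.le
        omega
      · intro r _ _ r' _ _ h
        exact Nat.eq_of_mul_eq_mul_right hqpos h
      · intro i hi hne
        rw [mem_range] at hi
        have hne' : coeff (m2 i (p ^ (t + 1) - i)) g ≠ 0 := fun h => hne (by rw [h, monomial_zero])
        rcases Nat.eq_zero_or_pos i with rfl | hpos
        · exact absurd (by rw [Nat.sub_zero]; exact hend0 _) hne'
        rcases (show i ≤ p ^ (t + 1) by omega).eq_or_lt with rfl | hlt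
        · exact absurd (by rw [Nat.sub_self]; exact H.left0 _) hne'
        obtain ⟨r, hr⟩ : p ^ t ∣ i := by
          by_contra hnd
          exact hne' (hzero i hpos hlt hnd)
        refine ⟨r, mem_Ico.mpr ⟨?_, ?_⟩, ?_, (mul_comm _ _).trans hr.symm⟩
        · rcases Nat.eq_zero_or_pos r with rfl | h
          · simp at hr; omega
          · exact h
        · refine Nat.lt_of_mul_lt_mul_left (a := q) ?_
          rw [← hr, mul_comm q p, ← hnq]
          exact hlt
        · rw [show r * q = i by rw [hr, mul_comm]]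
          exact hne
      · intro r _ _
        rfl
    rw [hev, hev, hev, add_pow_char_pow hqP, hG]
    have hprod := sum_mul_sum_truncExp hqP E hE β (X 0 ^ q : MvPolynomial (Fin 2) Q) (X 1 ^ q) hβ
    have hlow : ∀ z : MvPolynomial (Fin 2) Q, β ^ p * ∑ i ∈ range p, E i * β ^ i * z ^ i = β ^ p := by
      intro z
      rw [Finset.mul_sum, Finset.sum_eq_single_of_mem 0 (mem_range.mpr hp'.pos)]
      · have := hE 0 hp'.pos
        simp only [Nat.factorial_zero, Nat.cast_one, mul_one] at this
        simp [this]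
      · intro i _ hi
        obtain ⟨s, rfl⟩ : ∃ s, i = s + 1 := ⟨i - 1, by omega⟩
        have : β ^ p * β ^ (s + 1) = 0 := by
          rw [← pow_add, show p + (s + 1) = (p + 1) + s by omega, pow_add, hβ, zero_mul]
        linear_combination (E (s + 1) * z ^ (s + 1)) * this
    linear_combination (-1) * hprod +
      (∑ r ∈ Ico 1 p, E r * E (p - r) * (X 0 ^ q) ^ r * (X 1 ^ q) ^ (p - r)) *
        ((∑ j ∈ range p, E j * β ^ j * (X 1 ^ q : MvPolynomial (Fin 2) Q) ^ j) * hlow (X 0 ^ q) +
          hlow (X 1 ^ q))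
  · simp only [not_exists] at hpow
    obtain ⟨q, x, hq1, hq2, hval⟩ := (H.rec_eq n).eq_choose hq (by omega) hpow
    obtain ⟨b, hb, hbp, -⟩ := hroot (m2 q (n - q))
    let γ : R := (x : R) * b ^ p
    have hγn : IsNilpotent γ := (Commute.all _ _).isNilpotent_mul_left (hb.pow_of_pos hp'.ne_zero)
    let w : Polynomial R := 1 + Polynomial.C γ * Polynomial.X ^ n
    have hw0 : w.coeff 0 = 1 := by simp [w, show (0 : ℕ) ≠ n by omega]
    have hnil : IsNilpotent (Polynomial.C γ * Polynomial.X ^ n) :=
      (Commute.all _ _).isNilpotent_mul_right (hγn.map Polynomial.C)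
    obtain ⟨wu, hwu⟩ : ∃ wu : (Polynomial R)ˣ, (wu : Polynomial R) = w :=
      ⟨hnil.isUnit_one_add.unit, rfl⟩
    refine ⟨(wu : Polynomial R), ↑wu⁻¹, wu.mul_inv, hwu ▸ hw0, cob_map_eq _ _ wu.mul_inv _ ?_⟩
    let c : Q := φ γ
    have hc : c = -((x : Q) * coeff (m2 q (n - q)) g) := by simp [c, γ, hbp]
    have hev : ∀ z : MvPolynomial (Fin 2) Q,
        Polynomial.aeval z ((wu : Polynomial R).map φ) = 1 + C c * z ^ n := by
      intro z
      simp [hwu, w, c]
    have hG : part g n = C c * (X 0 ^ n + X 1 ^ n - (X 0 + X 1) ^ n) := by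
      rw [mul_sub, mul_add, add_pow, Finset.mul_sum, part, eq_sub_iff_add_eq, ← Finset.sum_add_distrib,
        Finset.sum_range_succ, Finset.sum_eq_single_of_mem 0 (mem_range.mpr (by omega))]
      · simp [monomial_m2, hend0 n, H.left0 n, Nat.sub_zero]
        ring
      · intro i hi hi0
        rw [mem_range] at hi
        rw [hval i (Nat.pos_of_ne_zero hi0) hi, monomial_m2, hc]
        simp only [map_mul, map_natCast, map_neg]
        ring
    have hsq : C c * C c = (0 : MvPolynomial (Fin 2) Q) := by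
      rw [← map_mul, hc]
      have := H.sq_zero (m2 q (n - q)) (m2 q (n - q))
      rw [show -((x : Q) * coeff (m2 q (n - q)) g) * -((x : Q) * coeff (m2 q (n - q)) g) =
        (x : Q) * x * (coeff (m2 q (n - q)) g * coeff (m2 q (n - q)) g) by ring, this, mul_zero, map_zero]
    rw [hev, hev, hev, hG]
    linear_combination ((X 0 + X 1) ^ n * (-(X 0 ^ n + X 1 ^ n) - C c * X 0 ^ n * X 1 ^ n) +
      (X 0 ^ n + X 1 ^ n) * (X 0 ^ n + X 1 ^ n + C c * X 0 ^ n * X 1 ^ n) - X 0 ^ n * X 1 ^ n) * hsq

/-- Killing the whole additive cocycle. -/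
theorem exists_cob (hp : (p : R) = 0) (φ : R →+* Q) {g : MvPolynomial (Fin 2) Q} (H : IsAddCoc g)
    (hroot : ∀ m, ∃ b : R, IsNilpotent b ∧ φ b ^ p = -coeff m g ∧ φ b ^ (p + 1) = 0) :
    ∃ u v : Polynomial R, u * v = 1 ∧ u.coeff 0 = 1 ∧ MvPolynomial.map φ (cob u v) = 1 - g := by
  choose u v huv hu0 hcob using exists_cob_part hp φ H hroot
  have : ∀ D, ∃ U V : Polynomial R, U * V = 1 ∧ U.coeff 0 = 1 ∧
      MvPolynomial.map φ (cob U V) = 1 - ∑ n ∈ range D, part g n := by
    intro D
    induction D with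
    | zero => exact ⟨1, 1, one_mul 1, Polynomial.coeff_one_zero, by simp [cob]⟩
    | succ D ih =>
      obtain ⟨U, V, h1, h2, h3⟩ := ih
      refine ⟨U * u D, V * v D, by rw [mul_mul_mul_comm, h1, huv, one_mul],
        by rw [Polynomial.mul_coeff_zero, h2, hu0, one_mul], ?_⟩
      have h0 : (∑ n ∈ range D, part g n) * part g D = 0 := by
        rw [Finset.sum_mul]
        exact Finset.sum_eq_zero fun i _ => part_mul_part H.sq_zero i D
      rw [cob_mul, map_mul, h3, hcob, Finset.sum_range_succ]
      linear_combination h0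
  obtain ⟨D, hD⟩ := exists_sum_part g
  have h := this D
  rwa [hD] at h

end Groth.Agent.GaSplit
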